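import Cfsg.Agent.H997.Rg.OrdEq
import Cfsg.Agent.H826.Rg.FpfOrth
import Cfsg.Agent.H377.Types
import Cfsg.Agent.H955.QClass
import Cfsg.Agent.H997.Rg.Fam
import Cfsg.Agent.H370.Rg.Zsig
import Cfsg.Agent.H76.Num

/-!
# The residual case F-D- (helper997; S3691)
-/

set_option autoImplicit false
set_option linter.unusedSectionVars false

namespace Cfsg.Agent.H997.Rg

open Module QuadraticMap Cfsg Cfsg.Geo Cfsg.Agent.LieClassical.OrthCore Cfsg.Agent.LieClassical.OrthTrans
  Cfsg.Agent.H454.Reg Cfsg.Agent.H884.El Cfsg.Agent.H449.Reg Cfsg.Agent.H826.Rg Cfsg.Agent.H964.Rg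
open Cfsg.Agent.LieClassical.OrthFinite (glEquiv)
open scoped MatrixGroups Matrix

universe u v

variable {ι : Type} [Fintype ι] [DecidableEq ι] {F : Type v} [Field F] [Finite F] {Q : QuadraticForm F (ι → F)}
  {G : Type u} [Group G] [Finite G] {T : Subgroup G} [T.Normal] {hG : Good Q} {eT : T ≃* POmega F (⇑Q)} {X Y : Subgroup G}
  {hI : Ind (eP hG eT)} {v : ι → F}

/-- the natural representation -/
theorem inj_of {K : Subgroup (GL ι F)} {ρ : K →* Module.End F (ι → F)}
    (hρ : ∀ (g : K) (w : ι → F), ρ g w = ((g : GL ι F) : Matrix ι ι F) *ᵥ w) : Function.Injective ρ := by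
  intro g h hgh
  apply Subtype.ext
  apply Units.ext
  apply Matrix.toLin'.injective
  ext1 i
  refine LinearMap.ext fun x => ?_
  rw [LinearMap.comp_apply, LinearMap.comp_apply, Matrix.toLin'_apply, Matrix.toLin'_apply, ← hρ, ← hρ, hgh]

/-- **F-D-** -/
theorem fd_core (hJ : OutJ1.{v}) {p f m : ℕ} (hp : p.Prime) (hf : 1 ≤ f) (hm : 4 ≤ m) (hS : SzM m (p ^ f))
    (hF : Nat.card F = p ^ f) (hι : Fintype.card ι = 2 * m) (hC : ∀ c : F, c ≠ 0 →
      Nat.card {u : ι → F // Q u = c} = Nat.card F ^ (2 * m - 1) + Nat.card F ^ (m - 1))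
    (hout : ∀ r : ℕ, r.Prime → orderOf ((p : ℕ) : ZMod r) = f * (2 * m) → ¬ r ∣ Nat.card (Cfsg.Out T))
    (houtp : (Nat.card (Cfsg.Out T)).factorization p ≤ (2 * f).factorization p)
    (hfac : Fac T X Y) (hR : ResV hI X v) (ρ : preG eT Y →* Module.End F (ι → F))
    (hρ : ∀ (g : preG eT Y) (w : ι → F), ρ g w = ((g : GL ι F) : Matrix ι ι F) *ᵥ w)
    (hfpf : Fpf p ρ) : False := by
  have hfT : Finite T := inferInstance
  have hpf := Fact.mk hp
  have hch : CharP F p := by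
    have : Fintype F := Fintype.ofFinite F
    obtain ⟨l, hl⟩ := CharP.exists F
    have hlp : Fact l.Prime := ⟨CharP.char_is_prime F l⟩
    obtain ⟨k, hk, hcard⟩ := FiniteField.card F l
    rw [← Nat.card_eq_fintype_card, hF] at hcard
    have h1 : l ∣ p ^ f := by rw [hcard]; exact dvd_pow_self l k.ne_zero
    have h3 : l = p := (Nat.prime_dvd_prime_iff_eq hk hp).1 (hk.dvd_of_dvd_pow h1)
    subst h3
    exact hl
  obtain ⟨x, s, z, -, hx, hs, hz, h2, heq⟩ := ord_eq (by omega) hfac hR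
  have hcount : Nat.card {u : ι → F // Q u = Q v} = p ^ (f * (m - 1)) * (p ^ (f * m) + 1) := by
    have h1 := hC (Q v) hR.ne
    rw [hF, ← pow_mul, ← pow_mul] at h1
    rw [h1, mul_add, mul_one, ← pow_add]
    congr 2
    obtain ⟨k, rfl⟩ : ∃ k, m = k + 1 := ⟨m - 1, by omega⟩
    rw [show 2 * (k + 1) - 1 = 2 * k + 1 by omega, Nat.add_sub_cancel]; ring
  rw [hcount] at heq
  have hs0 : s ≠ 0 := by rintro rfl; rw [zero_dvd_iff] at hs; omega
  have hx0 : x ≠ 0 := by
    rintro rfl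
    rw [zero_dvd_iff] at hx
    exact Nat.card_pos.ne' hx
  have hz0 : z ≠ 0 := by rintro rfl; rw [zero_dvd_iff] at hz; omega
  have hs2 := Nat.le_of_dvd two_pos hs
  have hz2 := Nat.le_of_dvd two_pos hz
  -- `s`, `z` are prime to `p`
  have hprime : ∀ t : ℕ, t ∣ 2 → (p = 2 → t = 1) → ¬ p ∣ t := by
    intro t ht ht1 hpt
    have h3 : p = 2 := (Nat.prime_dvd_prime_iff_eq hp Nat.prime_two).1 (hpt.trans ht)
    rw [ht1 h3] at hpt
    exact hp.one_lt.ne' (Nat.dvd_one.1 hpt)
  have h2' : p = 2 → s = 1 ∧ z = 1 := by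
    rintro rfl
    exact h2 (by have := CharP.cast_eq_zero F 2; exact_mod_cast this)
  have hps := hprime s hs fun h => (h2' h).1
  have hpz := hprime z hz fun h => (h2' h).2
  have hfm : 4 ≤ f * m := by nlinarith
  obtain ⟨r, hr, hor, hrlt, -⟩ := Cfsg.Agent.H370.Rg.exists_rk (f := f) (k := 2 * m) hp (by nlinarith) (by
    rintro ⟨_, h7⟩
    have : f * (2 * m) = 2 * (f * m) := by ring
    omega)
  have hrf := Fact.mk hr
  have hor' : orderOf ((p : ℕ) : ZMod r) = 2 * (f * m) := by rw [hor]; ring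
  have hr2 : 2 < r := by
    have : f * (2 * m) = 2 * (f * m) := by ring
    omega
  have hrX : r ∣ z * (p ^ (f * (m - 1)) * (p ^ (f * m) + 1)) := by
    refine Dvd.dvd.mul_left (Dvd.dvd.mul_left ?_ _) _
    have h8 : ((p : ℕ) : ZMod r) ^ (f * m) = -1 := by
      have h9 : ((p : ℕ) : ZMod r) ^ (f * m) * ((p : ℕ) : ZMod r) ^ (f * m) = 1 := by
        rw [← pow_add, ← two_mul, ← hor']; exact pow_orderOf_eq_one _
      rcases mul_self_eq_one_iff.1 h9 with h10 | h10
      · have h11 := orderOf_dvd_of_pow_eq_one h10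
        rw [hor'] at h11
        have := Nat.le_of_dvd (by omega) h11
        omega
      · exact h10
    rw [← ZMod.natCast_eq_zero_iff, Nat.cast_add, Nat.cast_pow, h8]
    push_cast; ring
  have hrK : r ∣ Nat.card (preG eT Y) := by
    rw [← heq] at hrX
    refine ((hr.dvd_mul).1 hrX).resolve_right ?_
    intro h3
    rcases (hr.dvd_mul).1 h3 with h4 | h4
    · have := Nat.le_of_dvd (Nat.pos_of_ne_zero hs0) h4
      omega
    · exact hout r hr hor (h4.trans hx)
  refine fd_abs hJ ρ (inj_of hρ) hp hf hm hS hF (by rw [Module.finrank_fintype_fun_eq_card, hι]) hfpf hr hor' hrK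
    (mul_ne_zero hs0 hx0) heq ?_ hpz (by omega)
  rw [Nat.factorization_mul hs0 hx0, Finsupp.add_apply, Nat.factorization_eq_zero_of_not_dvd hps, zero_add]
  exact (fac_le hx Nat.card_pos.ne').trans houtp

/-- the `p`-part of `|Out|`, minus type -/
theorem out_minus_p {S : Type*} [Group S] [Finite S] [IsSimpleGroup S] (hna : ¬ IsMulCommutative S) {F : Type*} [Field F]
    [Fintype F] {p f m : ℕ} (hp : p.Prime) (hf : 1 ≤ f) (hF : Fintype.card F = p ^ f) (hm : 4 ≤ m) {a b : F}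
    (hab : ∀ z₁ z₂ : F, z₁ ^ 2 + a * z₁ * z₂ + b * z₂ ^ 2 = 0 → z₁ = 0 ∧ z₂ = 0)
    (e : S ≃* POmega F (quadFormMinus (m - 1) F a b)) :
    (Nat.card (Cfsg.Out S)).factorization p ≤ (2 * f).factorization p := by
  have := Fact.mk hp
  have h1 := Cfsg.Agent.S0818.result p f hf hF m hm a b hab
  have h2 : Nat.card (MulAut S) = ((if p = 2 then 2 else (if Even (m * (p ^ f - 1) / 2) then 4 else 8)) * f) * Nat.card S := by
    rw [Cfsg.Agent.H364.OutLie.mulaut_congr e, h1, Nat.card_congr e.toEquiv]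
  rw [Cfsg.Agent.H934.OutB.card_out_of_aut hna h2]
  by_cases hp2 : p = 2
  · rw [if_pos hp2]
  · rw [if_neg hp2]
    obtain ⟨k, hk⟩ : ∃ k : ℕ, (if Even (m * (p ^ f - 1) / 2) then 4 else 8) = 2 ^ k := by
      split_ifs
      · exact ⟨2, rfl⟩
      · exact ⟨3, rfl⟩
    have hpd : ∀ k : ℕ, ¬ p ∣ 2 ^ k := fun k h => hp2 ((Nat.prime_dvd_prime_iff_eq hp Nat.prime_two).1 (hp.dvd_of_dvd_pow h))
    have hpd1 := hpd 1
    rw [pow_one] at hpd1
    rw [hk, Nat.factorization_mul (by positivity) (by omega), Nat.factorization_mul (by norm_num) (by omega),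
      Finsupp.add_apply, Finsupp.add_apply, Nat.factorization_eq_zero_of_not_dvd (hpd k),
      Nat.factorization_eq_zero_of_not_dvd hpd1]

/-- the number of vectors of given nonzero norm, minus type -/
theorem count_minus {F V : Type*} [Field F] [Finite F] [AddCommGroup V] [Module F V] [FiniteDimensional F V]
    {Q : QuadraticForm F V} {m : ℕ} (hm : 3 ≤ m) (hV : Module.finrank F V = 2 * m) (hQ : Nondeg Q)
    (hP : ¬ Cfsg.Agent.H955.IsPlus Q) (c : F) (hc : c ≠ 0) :
    Nat.card {u : V // Q u = c} = Nat.card F ^ (2 * m - 1) + Nat.card F ^ (m - 1) := by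
  have : Fintype F := Fintype.ofFinite F
  rcases Cfsg.Agent.H377.classify_all (by omega) hV Q hQ with ⟨e, he⟩ | ⟨ζ, hζ, e, he⟩
  · refine absurd ((Cfsg.Agent.H955.isPlus_plus m).of_equiv e fun u => ?_) hP
    rw [he u, Cfsg.Agent.LieClassical.QuadForms.coe_plusForm]
  · obtain ⟨k, rfl⟩ : ∃ k, m = k + 1 := ⟨m - 1, by omega⟩
    have h0 := (Cfsg.Agent.H76.Num.minusCount hζ k (by omega)).ne_zero c hc
    rw [← h0]
    have he' : ∀ u : (Fin k ⊕ Fin k) ⊕ Fin 2 → F, Q (e u) = Cfsg.Agent.LieClassical.OrthForms.minusForm k F 1 ζ u := by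
      intro u
      rw [Cfsg.Agent.LieClassical.OrthForms.coe_minusForm]
      exact he u
    exact Nat.card_congr ⟨fun u => ⟨e.symm u.1, by
        have h1 := he' (e.symm u.1)
        have h2 : e (e.symm u.1) = u.1 := e.apply_symm_apply u.1
        rw [h2, u.2] at h1
        exact h1.symm⟩, fun u => ⟨e u.1, (he' u.1).trans u.2⟩, fun u => Subtype.ext (e.apply_symm_apply u.1),
      fun u => Subtype.ext (e.symm_apply_apply u.1)⟩

/-- **F-D-**: the residual case of minus type -/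
theorem fd_minus (hJ : OutJ1.{v}) {p f m : ℕ} (hp : p.Prime) (hf : 1 ≤ f) (hm : 4 ≤ m) (hS : SzM m (p ^ f))
    (hF : Nat.card F = p ^ f) (hι : Fintype.card ι = 2 * m) (hP : ¬ Cfsg.Agent.H955.IsPlus Q)
    (hout : ∀ r : ℕ, PP p (f * (2 * m)) r → ¬ r ∣ Nat.card (Cfsg.Out T))
    (houtp : (Nat.card (Cfsg.Out T)).factorization p ≤ (2 * f).factorization p)
    (hfac : Fac T X Y) (hR : ResV hI X v) : False := by
  have hV : Module.finrank F (ι → F) = 2 * m := by rw [Module.finrank_fintype_fun_eq_card, hι]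
  have hpf := Fact.mk hp
  have hch : CharP F p := by
    have : Fintype F := Fintype.ofFinite F
    exact Cfsg.Agent.H364.OutLie.charP_of_card hp hf (by rw [← Nat.card_eq_fintype_card]; exact hF)
  exact fd_core hJ hp hf hm hS hF hι (fun c hc => count_minus (by omega) hV hG.nondeg hP c hc)
    (fun r hr ho => hout r ⟨hr, ho⟩) houtp hfac hR (repG eT Y) (fun g w => repG_apply g w)
    (fpfG hp (by omega) ⟨m, by omega⟩ hfac hR)

end Cfsg.Agent.H997.Rg
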