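import Cfsg.Agent.H826.RgF.Glue

/-!
# S3691, row `oplus`, `m ≥ 5` odd: the reduction (helper997)

`mo_false` : box of tools/plans/S3691_plus_stubs3.lean.txt (helper826)
-/

set_option autoImplicit false
set_option linter.unusedSectionVars false

namespace Cfsg.Agent.H997.Rg.PlusOdd

open Module QuadraticMap Cfsg Cfsg.Geo Cfsg.Agent.LieClassical.OrthCore Cfsg.Agent.LieClassical.OrthTrans
  Cfsg.Agent.H454.Reg Cfsg.Agent.H449.Reg Cfsg.Agent.H955 Cfsg.Agent.H954.TSing Cfsg.Agent.H884.El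
open Cfsg.Agent.H951 (fx cm Inv)
open Cfsg.Agent.H826.Rg (preE mem_preE preE_le_E preE_le_O mem_preE_iff mem_preE_iff' card_preE)
open Cfsg.Agent.H964.Rg (ResV ResP Cx)
open Cfsg.Agent.LieClassical.OrthFinite (glEquiv)
open Cfsg.Agent.H826.RgF
open scoped MatrixGroups Matrix

universe u

/-- a subgroup of `O(Q)`, `dim = 2 m`, `m` odd, with elements of orders `r ^ i` (`ord_r(q) = e > m`, `2 m - e ≤ 4`) and `w`
(`ord_w(q) = m`) -/
theorem abs {F : Type} [Field F] [Fintype F] {V : Type} [AddCommGroup V] [Module F V] [FiniteDimensional F V]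
    {Q : QuadraticForm F V} {A : Subgroup (V ≃ₗ[F] V)} (hQ : Nondeg Q) (hA : A ≤ O Q) {m e r i w : ℕ} (hm : 5 ≤ m) (hodd : Odd m)
    (hn : finrank F V = 2 * m) (hr : PP (Nat.card F) e r) (hi : 1 ≤ i) (he : e = 2 * m - 2 ∨ e = 2 * m - 4)
    (hw : PP (Nat.card F) m w) (hL : LO F (2 * m) e (r ^ i) w) (h1 : El A (r ^ i)) (h2 : El A w) (hE : ¬ E Q ≤ A) : False := by
  have he2 : 2 ≤ e := by omega
  have hn2 : finrank F V < 2 * e := by omega
  rcases hL hQ hn A hA h1 h2 with hrd | ⟨s, hs, hsd, hK⟩ | h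
  · -- reducible
    obtain ⟨x, hx, hxr, hx1⟩ := h1.exists_prime hr.prime hi
    obtain ⟨S, hS0, hS, hSx⟩ := rd_fix hQ hA hr he2 hn2 hx hxr hx1 hrd
    obtain ⟨hd, -, -⟩ := block hr he2 hn2 (hA hx) hxr hx1
    obtain ⟨z, hz, hzw, hz1⟩ := h2.exists_elt hw.prime
    have h3 := Submodule.finrank_mono hSx
    have h4 : S ≤ fx (z : Module.End F V) := le_fx hw (by omega) (hA hz) hzw (fun s hs => hS z hz s hs) (by omega)
    have h5 := iso_of hw (by omega) (hA hz) hzw
    have h6 := (h5.odd_case hQ (H522.Rg.coe_ne_one hz1) hw hodd (by omega)).1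
    have h7 := h5.finrank_add
    have h8 := Submodule.finrank_mono h4
    exact hS0 (Submodule.finrank_eq_zero.1 (by omega))
  · -- extension field
    have hs2 : s = 2 := by
      have h3 : s ∣ 2 * m := hsd.trans (Nat.gcd_dvd_left _ _)
      have h4 : s ∣ e := hsd.trans (Nat.gcd_dvd_right _ _)
      have h5 : s ∣ 2 * m - e := Nat.dvd_sub h3 h4
      have h6 : s ∣ 4 := by
        rcases he with he | he
        · have h7 : 2 * m - e = 2 := by omega
          rw [h7] at h5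
          exact h5.trans (by norm_num)
        · have h7 : 2 * m - e = 4 := by omega
          rwa [h7] at h5
      exact (Nat.prime_dvd_prime_iff_eq hs Nat.prime_two).1 (hs.dvd_of_dvd_pow (show s ∣ 2 ^ 2 by norm_num; exact h6))
    subst hs2
    exact H522.Rg.o_not_two_odd hQ hA hw hodd (by omega) (by omega) h2.dvd hK
  · exact hE h

variable {ι : Type} [Fintype ι] [DecidableEq ι] {F : Type} [Field F] [Fintype F] {Q : QuadraticForm F (ι → F)}
variable {G : Type u} [Group G] [Finite G] {T : Subgroup G} [T.Normal] {hG : Good Q} {eT : T ≃* POmega F (⇑Q)}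
  {hI : Ind (eP hG eT)} {X Y : Subgroup G} {p f m : ℕ}

/-- **`m` odd** -/
theorem mo_false (h : Cx hI X Y p f m (2 * m - 2)) (e : Nonempty (T ≃* POmega F (quadFormPlus m F))) (_hP : IsPlus Q) (hm : 5 ≤ m)
    (hodd : Odd m) {r2 i r4 j w : ℕ} (hD : DOdd F p f m r2 i r4 j w) (h2 : r2 ^ i ∣ Nat.card (X.subgroupOf T))
    (h4 : r4 ^ j ∣ Nat.card (Y.subgroupOf T)) : False := by
  have hw := h.pp hD.ppw
  have hr2 := h.pp hD.dc.pp2
  have hr4 := h.pp hD.dc.pp4
  rcases dich_odd h e (by omega) (by omega) le_rfl hD.ppw with hX | hY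
  · exact abs hG.nondeg preE_le_O hm hodd h.finrank_V hr2 hD.dc.pos2 (Or.inl rfl) hw hD.lo2
      (el_preE h hD.dc.pp2 (by omega) (by omega) h2) (el_prime hw.prime hX) (not_E_le h.fac.not_le_left)
  · exact abs hG.nondeg preE_le_O hm hodd h.finrank_V hr4 hD.dc.pos4 (Or.inr rfl) hw hD.lo4
      (el_preE h.symm hD.dc.pp4 (by omega) (by omega) h4) (el_prime hw.prime hY) (not_E_le h.fac.not_le_right)

end Cfsg.Agent.H997.Rg.PlusOdd
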