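import Cfsg.Agent.H826.Rg.Bridge

/-!
# The order equation in the residual cases of orthogonal groups (helper997; S3691)
-/

set_option autoImplicit false
set_option linter.unusedSectionVars false

namespace Cfsg.Agent.H997.Rg

open Module QuadraticMap Cfsg Cfsg.Geo Cfsg.Agent.LieClassical.OrthCore Cfsg.Agent.LieClassical.OrthTrans
  Cfsg.Agent.H454.Reg Cfsg.Agent.H884.El Cfsg.Agent.H449.Reg Cfsg.Agent.H826.Rg Cfsg.Agent.H964.Rg
open Cfsg.Agent.ClassicalGeometry.OrthSemi
open Cfsg.Agent.LieClassical.OrthFinite (glEquiv)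
open scoped MatrixGroups Matrix

universe u v

section abs

variable {F V : Type*} [Field F] [AddCommGroup V] [Module F V] {Q : QuadraticForm F V}
  {G : Type*} [Group G] {T : Subgroup G} [T.Normal] {e : T ≃* (↥(E Q) ⧸ Subgroup.center ↥(E Q))} {X Y : Subgroup G}

theorem card_E [Finite V] (e : T ≃* (↥(E Q) ⧸ Subgroup.center ↥(E Q))) : Nat.card (E Q) = Nat.card T * Nat.card (Subgroup.center ↥(E Q)) := by
  rw [Subgroup.card_eq_card_quotient_mul_card_subgroup (Subgroup.center ↥(E Q)), Nat.card_congr e.toEquiv]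

theorem card_preE_mul [Finite V] : Nat.card (preE e X) =
    Nat.card (X.subgroupOf T) * Nat.card (Subgroup.center ↥(E Q)) := by
  have hEf : Finite (V ≃ₗ[F] V) := Finite.of_injective (fun g : V ≃ₗ[F] V => (g : V → V)) DFunLike.coe_injective
  have hTf : Finite T := Finite.of_equiv _ e.symm.toEquiv
  let φ : ↥(E Q) →* T := e.symm.toMonoidHom.comp (QuotientGroup.mk' _)
  have hφ : Function.Surjective φ := e.symm.surjective.comp (QuotientGroup.mk'_surjective _)
  have h1 : (preE e X).subgroupOf (E Q) = (X.subgroupOf T).comap φ := by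
    ext g
    rw [Subgroup.mem_subgroupOf, mem_preE g.2, Subgroup.mem_comap, Subgroup.mem_subgroupOf]
    rfl
  have h2 : Nat.card ((preE e X).subgroupOf (E Q)) = Nat.card (preE e X) :=
    Nat.card_congr (Subgroup.subgroupOfEquivOfLe preE_le_E).toEquiv
  have h3 := Subgroup.card_mul_index ((X.subgroupOf T).comap φ)
  rw [Subgroup.index_comap_of_surjective _ hφ, card_E e, ← Subgroup.card_mul_index (X.subgroupOf T)] at h3
  rw [← h2, h1]
  have h4 : 0 < (X.subgroupOf T).index := Nat.pos_of_ne_zero Subgroup.index_ne_zero_of_finite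
  apply Nat.eq_of_mul_eq_mul_right h4
  rw [h3]; ring

/-- an orbit contained in `{v, -v}` -/
theorem orbit_le {H : Type*} [Group H] [Finite H] [MulAction H V] {v : V}
    (h : ∀ g : H, g • v = v ∨ g • v = -v) :
    ∃ s : ℕ, s ∣ 2 ∧ ((2 : F) = 0 → s = 1) ∧ Nat.card H = s * Nat.card (MulAction.stabilizer H v) := by
  classical
  refine ⟨(MulAction.stabilizer H v).index, ?_, ?_, ?_⟩
  · rw [MulAction.index_stabilizer]
    have h1 : MulAction.orbit H v ⊆ {v, -v} := by
      rintro _ ⟨g, rfl⟩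
      exact h g
    have h2 := (Set.ncard_le_ncard h1 (Set.toFinite _)).trans (Set.ncard_insert_le v {-v})
    rw [Set.ncard_singleton] at h2
    have h3 : 0 < (MulAction.orbit H v).ncard := by
      rw [Set.ncard_pos ((Set.toFinite {v, -v}).subset h1)]
      exact MulAction.nonempty_orbit v
    have h4 : (MulAction.orbit H v).ncard = 1 ∨ (MulAction.orbit H v).ncard = 2 := by omega
    rcases h4 with h4 | h4 <;> rw [h4]
    exact one_dvd 2
  · intro h2
    rw [Subgroup.index_eq_one, eq_top_iff]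
    intro g _
    rw [MulAction.mem_stabilizer_iff]
    have hv : v + v = 0 := by rw [← two_smul F, h2, zero_smul]
    rcases h g with h3 | h3
    · exact h3
    · rw [h3]; exact neg_eq_of_add_eq_zero_left hv
  · rw [mul_comm]; exact (Subgroup.card_mul_index _).symm

theorem ord_eqE [Finite V] [Finite F] [Finite G] (hG : Good Q) (hd : 7 ≤ finrank F V) (hf : Fac T X Y) {v : V}
    (hv : Q v ≠ 0) (hs : Sg Q v ≤ preE e X) (hfix : ∀ g ∈ preE e X, ∃ c : F, g v = c • v) :
    ∃ x s z : ℕ, x ∣ T.index ∧ x ∣ Nat.card (Out T) ∧ s ∣ 2 ∧ z ∣ 2 ∧ ((2 : F) = 0 → s = 1 ∧ z = 1) ∧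
      Nat.card (preE e Y) * (s * x) = z * Nat.card {u : V // Q u = Q v} := by
  have hEf : Finite (V ≃ₗ[F] V) := Finite.of_injective (fun g : V ≃ₗ[F] V => (g : V → V)) DFunLike.coe_injective
  have hv0 : v ≠ 0 := by
    rintro rfl
    exact hv (QuadraticMap.map_zero Q)
  -- scalars
  have hsc : ∀ g : V ≃ₗ[F] V, g ∈ E Q → (∃ c : F, g v = c • v) → g v = v ∨ g v = -v := by
    rintro g hg ⟨c, hc⟩
    have h1 : Q (g v) = Q v := E_le_O hg v
    rw [hc, QuadraticMap.map_smul, smul_eq_mul] at h1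
    have h2 : c * c = 1 := by
      have h3 : (c * c - 1) * Q v = 0 := by rw [sub_mul, h1, one_mul, sub_self]
      exact sub_eq_zero.1 ((mul_eq_zero.1 h3).resolve_right hv)
    rcases mul_self_eq_one_iff.1 h2 with h3 | h3
    · left; rw [hc, h3, one_smul]
    · right; rw [hc, h3, neg_smul, one_smul]
  -- the centre
  have hz : ∃ z : ℕ, z ∣ 2 ∧ ((2 : F) = 0 → z = 1) ∧ Nat.card (Subgroup.center ↥(E Q)) = z := by
    letI : MulAction (Subgroup.center ↥(E Q)) V :=
      { smul := fun g u => ((g : ↥(E Q)) : V ≃ₗ[F] V) u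
        one_smul := fun u => rfl
        mul_smul := fun a b u => rfl }
    obtain ⟨s, h1, h2, h3⟩ := orbit_le (F := F) (H := Subgroup.center ↥(E Q)) (v := v) (by
      intro g
      refine hsc _ (g : ↥(E Q)).2 ?_
      have h1 : conjE Q (lg (g : ↥(E Q))) = 1 := by
        ext x w
        obtain ⟨w, rfl⟩ := (lg (Q := Q) (g : ↥(E Q))).1.surjective w
        rw [coe_conjE, conjLin_apply']
        have h2 := congrArg Subtype.val (Subgroup.mem_center_iff.1 g.2 x)
        have h3 := congrArg (fun z : V ≃ₗ[F] V => z w) h2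
        exact h3.symm
      obtain ⟨a, -, ha⟩ := exists_scalar_of_conjE hG _ h1
      exact ⟨a, ha v⟩)
    refine ⟨s, h1, h2, ?_⟩
    have h4 : MulAction.stabilizer (Subgroup.center ↥(E Q)) v = ⊥ := by
      rw [eq_bot_iff]
      intro g hg
      have h5 : ((g : ↥(E Q)) : V ≃ₗ[F] V) v = v := hg
      have h6 := eq_one_of_central hG (g : ↥(E Q)).2 g.2 hv0 h5
      exact Subtype.ext (Subtype.ext h6)
    rw [h3, h4, Subgroup.card_bot, mul_one]
  obtain ⟨z, hz2, hz1, hz⟩ := hz
  -- the order of `preE e X`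
  have hX : ∃ s : ℕ, s ∣ 2 ∧ ((2 : F) = 0 → s = 1) ∧
      Nat.card (preE e X) = s * Nat.card (St Q v ⊓ E Q : Subgroup (V ≃ₗ[F] V)) := by
    letI : MulAction (preE e X) V :=
      { smul := fun g u => (g : V ≃ₗ[F] V) u
        one_smul := fun u => rfl
        mul_smul := fun a b u => rfl }
    obtain ⟨s, h1, h2, h3⟩ := orbit_le (F := F) (H := preE e X) (v := v) (fun g =>
      hsc _ (preE_le_E g.2) (hfix _ g.2))
    refine ⟨s, h1, h2, ?_⟩
    rw [h3]
    congr 1
    refine Nat.card_congr ⟨fun g => ⟨(g.1 : V ≃ₗ[F] V), ⟨preE_le_O g.1.2, g.2⟩, preE_le_E g.1.2⟩,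
      fun g => ⟨⟨g.1, hs (mem_Sg_of_fix hG.nondeg hd hv g.2.2 g.2.1.2)⟩, g.2.1.2⟩, fun g => rfl, fun g => rfl⟩
  obtain ⟨s, hs2, hs1, hX⟩ := hX
  -- the order of `E Q`
  have hE : Nat.card (E Q) = Nat.card {u : V // Q u = Q v} * Nat.card (St Q v ⊓ E Q : Subgroup (V ≃ₗ[F] V)) := by
    letI : MulAction (E Q) {u : V // Q u = Q v} :=
      { smul := fun g u => ⟨(g : V ≃ₗ[F] V) u.1, by rw [E_le_O g.2]; exact u.2⟩
        one_smul := fun u => rfl
        mul_smul := fun a b u => rfl }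
    have htr : MulAction.IsPretransitive (E Q) {u : V // Q u = Q v} := by
      refine (MulAction.isPretransitive_iff_base (⟨v, rfl⟩ : {u : V // Q u = Q v})).2 fun u => ?_
      have hu0 : u.1 ≠ 0 := by
        intro h
        have h1 := u.2
        rw [h, QuadraticMap.map_zero] at h1
        exact hv h1.symm
      obtain ⟨k, hk, hku⟩ := hG.trans_norm hv0 hu0 u.2.symm
      exact ⟨⟨k, hk⟩, Subtype.ext hku⟩
    have h1 := MulAction.index_stabilizer_of_transitive (E Q) (⟨v, rfl⟩ : {u : V // Q u = Q v})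
    rw [← h1, mul_comm, ← Subgroup.card_mul_index (MulAction.stabilizer (E Q) (⟨v, rfl⟩ : {u : V // Q u = Q v}))]
    congr 1
    refine Nat.card_congr ⟨fun g => ⟨(g.1 : V ≃ₗ[F] V), ⟨E_le_O g.1.2, congrArg Subtype.val g.2⟩, g.1.2⟩,
      fun g => ⟨⟨g.1, g.2.2⟩, Subtype.ext g.2.1.2⟩, fun g => rfl, fun g => rfl⟩
  obtain ⟨x, hx1, hx2, hx⟩ := hf.card0
  refine ⟨x, s, z, hx1, hx2, hs2, hz2, fun h => ⟨hs1 h, hz1 h⟩, ?_⟩
  have h1 := card_preE_mul (e := e) (X := X)
  have h2 := card_preE_mul (e := e) (X := Y)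
  have h3 := card_E e
  rw [hz] at h1 h2 h3
  have hpos : 0 < Nat.card (St Q v ⊓ E Q : Subgroup (V ≃ₗ[F] V)) := Nat.card_pos
  apply Nat.eq_of_mul_eq_mul_left hpos
  calc Nat.card (St Q v ⊓ E Q : Subgroup (V ≃ₗ[F] V)) * (Nat.card (preE e Y) * (s * x))
      = (s * Nat.card (St Q v ⊓ E Q : Subgroup (V ≃ₗ[F] V))) * Nat.card (preE e Y) * x := by ring
    _ = (Nat.card (X.subgroupOf T) * z) * (Nat.card (Y.subgroupOf T) * z) * x := by rw [← hX, h1, h2]
    _ = (Nat.card (X.subgroupOf T) * Nat.card (Y.subgroupOf T) * x) * z * z := by ring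
    _ = Nat.card (E Q) * z := by rw [hx, h3]
    _ = _ := by rw [hE]; ring

end abs

section mat

variable {ι : Type} [Fintype ι] [DecidableEq ι] {F : Type v} [Field F] [Finite F] {Q : QuadraticForm F (ι → F)}
  {G : Type u} [Group G] [Finite G] {T : Subgroup G} [T.Normal] {hG : Good Q} {eT : T ≃* POmega F (⇑Q)} {X Y : Subgroup G}
  {hI : Ind (eP hG eT)} {v : ι → F}

/-- **the order equation** of the residual case `ResV`: `Y` acts regularly, up to small factors, on the vectors of norm `Q v` -/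
theorem ord_eq (hn : 7 ≤ Fintype.card ι) (hf : Fac T X Y) (hR : ResV hI X v) :
    ∃ x s z : ℕ, x ∣ T.index ∧ x ∣ Nat.card (Out T) ∧ s ∣ 2 ∧ z ∣ 2 ∧ ((2 : F) = 0 → s = 1 ∧ z = 1) ∧
      Nat.card (preG eT Y) * (s * x) = z * Nat.card {u : ι → F // Q u = Q v} := by
  rw [← card_preE (hG := hG)]
  refine ord_eqE hG (by rwa [Module.finrank_fintype_fun_eq_card]) hf hR.ne (sg_le_preE hR) ?_
  intro g hg
  have h1 : Inv0 hI X (F ∙ v) := fun t ht => hR.fix t ht
  rw [inv0_iff hG] at h1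
  have h2 := h1 (mem_preE_iff'.1 hg)
  have h3 := H884.OmegaGL.mem_subspaceStabilizer.1 h2 v (Submodule.mem_span_singleton_self v)
  rw [Submodule.mem_span_singleton] at h3
  obtain ⟨c, hc⟩ := h3
  refine ⟨c, ?_⟩
  rw [MulEquiv.apply_symm_apply] at hc
  exact hc.symm

end mat

end Cfsg.Agent.H997.Rg
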