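import Cfsg.Agent.H997.Rg.Size
import Cfsg.Agent.H997.Rg.Lin

/-!
# Structural form of the core theorem (helper997; S3691)

`K` finite with cyclic Sylow `s`-subgroups for all odd `s ≠ p`; `L` a normal component.
-/

set_option autoImplicit false

open Subgroup Cfsg Matrix
open Cfsg.Agent.SignalizersComponents.Components

namespace Cfsg.Agent.H997.Rg

universe u

/-- `|L/Z(L)| |C_K(L)|` divides `|K|` -/
theorem card_comp {K : Type*} [Group K] [Finite K] (L : Subgroup K) (hL : L.Normal) :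
    Nat.card (↥L ⧸ center ↥L) * Nat.card (centralizer (L : Set K)) ∣ Nat.card K := by
  set C : Subgroup K := centralizer (L : Set K) with hC
  have h2 : L.relIndex (C ⊔ L) = L.relIndex C := Subgroup.relIndex_sup_right C L
  have h3 : Nat.card L * L.relIndex (C ⊔ L) = Nat.card (C ⊔ L : Subgroup K) := by
    have := Subgroup.relIndex_mul_relIndex (⊥ : Subgroup K) L (C ⊔ L) bot_le le_sup_right
    rwa [Subgroup.relIndex_bot_left, Subgroup.relIndex_bot_left] at this
  have h4 : Nat.card (L ⊓ C : Subgroup K) * L.relIndex C = Nat.card C := by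
    have := Subgroup.relIndex_mul_relIndex (⊥ : Subgroup K) (L ⊓ C) C bot_le inf_le_right
    rwa [Subgroup.relIndex_bot_left, Subgroup.relIndex_bot_left, Subgroup.inf_relIndex_right] at this
  have h5 : Nat.card (L ⊓ C : Subgroup K) = Nat.card (center ↥L) := by
    have h6 : L ⊓ C = (center ↥L).map L.subtype := by
      ext x
      constructor
      · rintro ⟨hx, hxC⟩
        refine ⟨⟨x, hx⟩, ?_, rfl⟩
        rw [SetLike.mem_coe, mem_center_iff]
        intro g
        exact Subtype.ext (mem_centralizer_iff.1 hxC g g.2)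
      · rintro ⟨z, hz, rfl⟩
        refine ⟨z.2, ?_⟩
        change (z : K) ∈ centralizer (L : Set K)
        rw [mem_centralizer_iff]
        intro h hh
        exact congrArg Subtype.val (mem_center_iff.1 hz ⟨h, hh⟩)
    rw [h6, Subgroup.card_map_of_injective L.subtype_injective]
  have h7 : Nat.card L = Nat.card (↥L ⧸ center ↥L) * Nat.card (center ↥L) :=
    Subgroup.card_eq_card_quotient_mul_card_subgroup _
  have h8 : Nat.card (C ⊔ L : Subgroup K) = Nat.card (↥L ⧸ center ↥L) * Nat.card C := by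
    rw [← h3, h2, h7, ← h4, h5]; ring
  rw [← h8]
  exact Subgroup.card_subgroup_dvd_card _

/-- the order of an element of `L` outside of `C(L)` -/
theorem orderOf_mk {K : Type*} [Group K] {L : Subgroup K} {y : K} {r : ℕ} (hr : r.Prime) (hy : orderOf y = r)
    (hyL : y ∈ L) (hyC : y ∉ centralizer (L : Set K)) : orderOf ((⟨y, hyL⟩ : L) : ↥L ⧸ center ↥L) = r := by
  have := Fact.mk hr
  apply orderOf_eq_prime
  · rw [← QuotientGroup.mk_pow]
    have : (⟨y, hyL⟩ : L) ^ r = 1 := by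
      apply Subtype.ext
      rw [Subgroup.coe_pow, Subgroup.coe_one, ← hy]; exact pow_orderOf_eq_one y
    rw [this]; rfl
  · intro h
    apply hyC
    have h1 := (QuotientGroup.eq_one_iff _).1 h
    rw [mem_centralizer_iff]
    intro x hx
    exact congrArg Subtype.val (mem_center_iff.1 h1 ⟨x, hx⟩)

theorem dvd_card_quot {K : Type*} [Group K] [Finite K] {L : Subgroup K} {y : K} {r : ℕ} (hr : r.Prime)
    (hy : orderOf y = r) (hyL : y ∈ L) (hyC : y ∉ centralizer (L : Set K)) : r ∣ Nat.card (↥L ⧸ center ↥L) := by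
  rw [← orderOf_mk hr hy hyL hyC]
  exact orderOf_dvd_natCard _

/-- elements of order `s` lie in `L` if `s` divides `|L/Z(L)|` -/
theorem mem_of_dvd {K : Type*} [Group K] [Finite K] {s : ℕ} (hs : s.Prime) (hcyc : ∀ P : Sylow s K, IsCyclic P)
    {L : Subgroup K} (hL : L.Normal) (hd : s ∣ Nat.card (↥L ⧸ center ↥L)) {z : K} (hz : orderOf z = s) : z ∈ L := by
  have := Fact.mk hs
  obtain ⟨a, ha⟩ := exists_prime_orderOf_dvd_card' (G := L) s (hd.trans (Subgroup.card_quotient_dvd_card _))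
  obtain ⟨g, hg⟩ := conj_of_cyclic hs hcyc (a := (a : K)) (b := z) (by rw [Subgroup.orderOf_coe]; exact ha) hz
  have h1 : g * z * g⁻¹ ∈ L := by
    have : g * z * g⁻¹ ∈ zpowers (a : K) := by rw [← hg]; exact Subgroup.mem_zpowers _
    exact (zpowers_le.2 a.2) this
  have h2 := hL.conj_mem _ h1 g⁻¹
  have h3 : g⁻¹ * (g * z * g⁻¹) * g⁻¹⁻¹ = z := by group
  rwa [h3] at h2

/-- an element of odd prime order not centralizing `L` has order dividing `|Aut (L/Z(L))|` -/
theorem dvd_of_not_cent {K : Type*} [Group K] [Finite K] {s : ℕ} (hs : s.Prime) {L : Subgroup K} (hL : L.Normal)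
    (hLq : IsQuasisimple L) (hout : ¬ s ∣ Nat.card (Cfsg.Out (↥L ⧸ center ↥L))) {z : K} (hz : orderOf z = s)
    (hzL : z ∉ centralizer (L : Set K)) : s ∣ Nat.card (↥L ⧸ center ↥L) := by
  have hsimple : IsSimpleGroup (↥L ⧸ center ↥L) := hLq.2
  have hZ := center_bot (not_comm_of (quasisimple_quot_not_solvable hLq))
  let φ : K →* MulAut (↥L ⧸ center ↥L) := (autQuot ↥L).comp (MulAut.conjNormal (H := L))
  have hφ : ∀ x, φ x = 1 → x ∈ centralizer (L : Set K) := by
    intro x hx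
    have h1 : (MulAut.conjNormal x : MulAut L) = 1 :=
      autQuot_injective (quasisimple_isPerfect hLq) (by rw [map_one]; exact hx)
    rw [mem_centralizer_iff]
    intro h hh
    have h2 := congrArg (fun β : MulAut L => ((β ⟨h, hh⟩ : L) : K)) h1
    simp only [MulAut.conjNormal_apply, MulAut.one_apply] at h2
    exact (mul_inv_eq_iff_eq_mul.1 h2).symm
  have h1 : orderOf (φ z) = s := by
    have := Fact.mk hs
    apply orderOf_eq_prime
    · rw [← map_pow, ← hz, pow_orderOf_eq_one, map_one]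
    · intro h; exact hzL (hφ z h)
  have h2 : s ∣ Nat.card (MulAut (↥L ⧸ center ↥L)) := by rw [← h1]; exact orderOf_dvd_natCard _
  rw [card_mulAut hZ] at h2
  exact ((Nat.Prime.dvd_mul hs).1 h2).resolve_right hout

/-! ### Lifting relations -/

/-- Lifting `t x t⁻¹ = x ^ i` through a central quotient. -/
theorem lift_rel {L S : Type*} [Group L] [Finite L] [Group S] {s : ℕ} (hs : s.Prime)
    (hcyc : ∀ P : Sylow s L, IsCyclic P) (π : L →* S) (hπ : Function.Surjective π) (hker : π.ker ≤ center L)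
    {x t : S} {i : ℕ} (hx : orderOf x = s) (hrel : t * x * t⁻¹ = x ^ i) :
    ∃ u v : L, orderOf u = s ∧ v * u * v⁻¹ = u ^ i ∧ π v = t := by
  have := Fact.mk hs
  obtain ⟨x0, hx0⟩ := hπ x
  obtain ⟨v, hv⟩ := hπ t
  have hN0 : Nat.card L ≠ 0 := Nat.card_pos.ne'
  set w : ℕ := Nat.card L / s ^ (Nat.card L).factorization s with hw
  obtain ⟨k, hk1, hk2⟩ := Nat.chineseRemainder (Nat.coprime_ordCompl hs hN0) 1 0
  set x1 : L := x0 ^ k with hx1
  have hπ1 : π x1 = x := by
    rw [hx1, map_pow, hx0]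
    conv_rhs => rw [← pow_one x]
    rw [pow_eq_pow_iff_modEq, hx]; exact hk1
  have hpow : x1 ^ s ^ (Nat.card L).factorization s = 1 := by
    obtain ⟨m, hm⟩ := Nat.modEq_zero_iff_dvd.1 hk2
    rw [hx1, ← pow_mul]
    have : k * s ^ (Nat.card L).factorization s = Nat.card L * m := by
      rw [hm]
      calc _ = (Nat.card L / s ^ (Nat.card L).factorization s * s ^ (Nat.card L).factorization s) * m := by ring
        _ = _ := by rw [Nat.div_mul_cancel (Nat.ordProj_dvd _ _)]
    rw [this, pow_mul, pow_card_eq_one', one_pow]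
  set x2 : L := v * x1 * v⁻¹ with hx2
  have hcent : x2 * (x1 ^ i)⁻¹ ∈ center L := by
    apply hker
    rw [MonoidHom.mem_ker, map_mul, map_inv, map_pow, hπ1, hx2, map_mul, map_mul, map_inv, hv, hπ1, hrel, mul_inv_cancel]
  have hcomm : Commute x1 x2 := by
    have h1 : x2 = (x2 * (x1 ^ i)⁻¹) * x1 ^ i := by group
    rw [h1]
    refine Commute.mul_right ?_ ((Commute.refl x1).pow_right i)
    exact (mem_center_iff.1 hcent x1)
  have hord : orderOf x1 = orderOf x2 := ((MulAut.conj v).orderOf_eq x1).symm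
  have hz := zpowers_eq hs hcyc hcomm hord hpow (j := (Nat.card L).factorization s)
    (by rw [hx2, conj_pow, hpow]; group)
  have hf : IsOfFinOrder x1 := isOfFinOrder_of_finite x1
  obtain ⟨j, hj⟩ := hf.mem_powers_iff_mem_zpowers.2 (show x2 ∈ zpowers x1 by rw [hz]; exact Subgroup.mem_zpowers x2)
  have hj' : x1 ^ j = x2 := hj
  have hij : j ≡ i [MOD s] := by
    have h1 := congrArg π hj'
    rw [map_pow, hπ1, hx2, map_mul, map_mul, map_inv, hv, hπ1, hrel, pow_eq_pow_iff_modEq, hx] at h1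
    exact h1
  have hsd : s ∣ orderOf x1 := by
    rw [← hx, ← hπ1]; exact orderOf_map_dvd π x1
  obtain ⟨e, he⟩ := hsd
  have he0 : e ≠ 0 := by
    rintro rfl
    rw [mul_zero] at he
    exact (orderOf_pos x1).ne' he
  refine ⟨x1 ^ e, v, ?_, ?_, hv⟩
  · rw [orderOf_pow_of_dvd he0 ⟨s, by rw [he, mul_comm]⟩, he, Nat.mul_div_cancel _ (Nat.pos_of_ne_zero he0)]
  · have h1 : v * x1 ^ e * v⁻¹ = (x1 ^ e) ^ j := by
      calc v * x1 ^ e * v⁻¹ = x2 ^ e := by rw [hx2, conj_pow]
        _ = (x1 ^ j) ^ e := by rw [hj']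
        _ = (x1 ^ e) ^ j := pow_right_comm x1 j e
    rw [h1, pow_eq_pow_iff_modEq]
    rw [orderOf_pow_of_dvd he0 ⟨s, by rw [he, mul_comm]⟩, he, Nat.mul_div_cancel _ (Nat.pos_of_ne_zero he0)]
    exact hij

/-- Lifting a normalized `p`-subgroup through a central quotient. -/
theorem lift_norm {L S : Type*} [Group L] [Finite L] [Group S] {p : ℕ} (hp : p.Prime) (π : L →* S)
    (hπ : Function.Surjective π) (hker : π.ker ≤ center L) (U : Subgroup S) (hU : IsPGroup p U) (hU1 : U ≠ ⊥) {z : L}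
    (hz : ∀ u ∈ U, π z * u * (π z)⁻¹ ∈ U) :
    ∃ P : Subgroup L, P ≠ ⊥ ∧ IsPGroup p P ∧ ∀ x ∈ P, z * x * z⁻¹ ∈ P := by
  have := Fact.mk hp
  have hfS : Finite S := Finite.of_surjective π hπ
  set V : Subgroup L := U.comap π with hV
  have hzV : ∀ x ∈ V, z * x * z⁻¹ ∈ V := by
    intro x hx
    rw [hV, mem_comap, map_mul, map_mul, map_inv]
    exact hz _ hx
  -- V is nilpotent
  let f : V →* U :=
    { toFun := fun x => ⟨π x, x.2⟩
      map_one' := Subtype.ext (map_one π)
      map_mul' := fun a b => Subtype.ext (map_mul π _ _) }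
  have hfs : Function.Surjective f := by
    rintro ⟨u, hu⟩
    obtain ⟨x, hx⟩ := hπ u
    exact ⟨⟨x, by rw [hV, mem_comap, hx]; exact hu⟩, Subtype.ext hx⟩
  have hnilU : Group.IsNilpotent U := hU.isNilpotent
  have hnil : Group.IsNilpotent V := by
    refine Subgroup.isNilpotent_of_ker_le_center f ?_
    intro x hx
    have h1 : π (x : L) = 1 := congrArg Subtype.val (MonoidHom.mem_ker.1 hx)
    have h2 := hker (MonoidHom.mem_ker.2 h1)
    rw [mem_center_iff]
    intro g
    exact Subtype.ext (mem_center_iff.1 h2 g)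
  have hfin : Finite V := inferInstance
  obtain ⟨P⟩ : Nonempty (Sylow p V) := inferInstance
  have hPn : (P : Subgroup V).Normal := by
    have := (Group.isNilpotent_of_finite_tfae (G := V)).out 0 3
    exact this.1 hnil p inferInstance P
  have hPc : (P : Subgroup V).Characteristic := Sylow.characteristic_of_normal P hPn
  refine ⟨(P : Subgroup V).map V.subtype, ?_, P.2.map _, ?_⟩
  · intro h
    have h1 : (P : Subgroup V) = ⊥ := by
      rwa [Subgroup.map_eq_bot_iff_of_injective _ V.subtype_injective] at h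
    have h2 : p ∣ Nat.card V := by
      obtain ⟨k, hk⟩ := IsPGroup.iff_card.1 hU
      have h3 : k ≠ 0 := by
        rintro rfl
        rw [pow_zero] at hk
        exact hU1 (Subgroup.card_eq_one.1 hk)
      have h4 : p ∣ Nat.card U := by rw [hk]; exact dvd_pow_self p h3
      exact h4.trans (Subgroup.card_dvd_of_surjective f hfs)
    have h3 := P.dvd_card_of_dvd_card h2
    rw [h1, Subgroup.card_bot] at h3
    exact hp.one_lt.ne' (Nat.dvd_one.1 h3)
  · -- the conjugation automorphism of V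
    have hzN : z ∈ normalizer (V : Set L) := by
      have h1 : V.map (MulAut.conj z).toMonoidHom = V := by
        apply Subgroup.eq_of_le_of_card_ge
        · rintro _ ⟨x, hx, rfl⟩
          exact hzV x hx
        · rw [Subgroup.card_map_of_injective (MulAut.conj z).injective]
      rw [Subgroup.mem_normalizer_iff]
      intro h
      constructor
      · intro hh; exact hzV h hh
      · intro hh
        rw [← h1] at hh
        obtain ⟨x, hx, hxe⟩ := hh
        have : x = h := (MulAut.conj z).injective (by exact hxe)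
        rwa [← this]
    let α : MulAut V := normalizerMonoidHom V ⟨z, hzN⟩
    rintro _ ⟨x, hx, rfl⟩
    have h2 := Subgroup.characteristic_iff_map_eq.1 hPc α
    refine ⟨α x, ?_, rfl⟩
    have : α x ∈ (P : Subgroup V).map α.toMonoidHom := ⟨x, hx, rfl⟩
    rwa [h2] at this

/-! ### Tori of `PSL₂` -/

/-- diagonal matrices -/
def dia {F : Type*} [Field F] (a : Fˣ) : SpecialLinearGroup (Fin 2) F :=
  ⟨!![(a : F), 0; 0, ((a⁻¹ : Fˣ) : F)], by simp [Matrix.det_fin_two]⟩

theorem dia_mul {F : Type*} [Field F] (a b : Fˣ) : dia (a * b) = dia a * dia b := by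
  apply Subtype.ext
  change !![((a * b : Fˣ) : F), 0; 0, (((a * b)⁻¹ : Fˣ) : F)] = !![(a : F), 0; 0, ((a⁻¹ : Fˣ) : F)] * !![(b : F), 0; 0, ((b⁻¹ : Fˣ) : F)]
  rw [Matrix.mul_fin_two, mul_inv]
  ext i j
  fin_cases i <;> fin_cases j <;> simp

/-- the diagonal matrices as a homomorphism -/
def diaHom {F : Type*} [Field F] : Fˣ →* SpecialLinearGroup (Fin 2) F :=
  MonoidHom.mk' dia dia_mul

theorem coe_dia {F : Type*} [Field F] (a : Fˣ) :
    (diaHom a : SpecialLinearGroup (Fin 2) F).1 = !![(a : F), 0; 0, ((a⁻¹ : Fˣ) : F)] := rfl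

theorem coe_upp {F : Type*} [Field F] (x : F) :
    (upp (Multiplicative.ofAdd x) : SpecialLinearGroup (Fin 2) F).1 = !![1, x; 0, 1] := rfl

theorem dia_conj {F : Type*} [Field F] (a : Fˣ) (x : F) :
    diaHom a * upp (Multiplicative.ofAdd x) * (diaHom a)⁻¹ = upp (Multiplicative.ofAdd ((a : F) ^ 2 * x)) := by
  rw [mul_inv_eq_iff_eq_mul]
  apply Subtype.ext
  have h0 : ∀ A B : SpecialLinearGroup (Fin 2) F, (A * B).1 = A.1 * B.1 := fun A B => rfl
  rw [h0, h0, coe_dia, coe_upp, coe_upp, Matrix.mul_fin_two, Matrix.mul_fin_two]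
  have ha : (a : F) * ((a⁻¹ : Fˣ) : F) = 1 := a.mul_inv
  have h2 : (a : F) * x = (a : F) ^ 2 * x * ((a⁻¹ : Fˣ) : F) := by
    calc (a : F) * x = a * x * 1 := by ring
      _ = a * x * ((a : F) * ((a⁻¹ : Fˣ) : F)) := by rw [ha]
      _ = _ := by ring
  congr 1
  simp only [mul_one, mul_zero, add_zero, zero_add, one_mul, zero_mul, h2]

theorem diaHom_not_center {F : Type*} [Field F] {a : Fˣ} {s : ℕ} (hs : s.Prime) (hs2 : s ≠ 2) (ha : orderOf a = s) :
    diaHom a ∉ center (SpecialLinearGroup (Fin 2) F) := by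
  intro h
  rw [Matrix.SpecialLinearGroup.mem_center_iff] at h
  obtain ⟨r, _, hr⟩ := h
  have h1 := congrArg (fun M : Matrix (Fin 2) (Fin 2) F => M 0 0) hr
  have h2 := congrArg (fun M : Matrix (Fin 2) (Fin 2) F => M 1 1) hr
  simp [diaHom, dia] at h1 h2
  have h3 : (a : F) = ((a⁻¹ : Fˣ) : F) := by rw [← h1, h2]; simp
  have h4 : a ^ 2 = 1 := by
    rw [pow_two]
    apply Units.ext
    rw [Units.val_mul]
    nth_rewrite 2 [h3]
    exact a.mul_inv
  have h5 := orderOf_dvd_of_pow_eq_one h4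
  rw [ha] at h5
  exact hs2 ((Nat.prime_dvd_prime_iff_eq hs Nat.prime_two).1 h5)

/-- elements of order `s ∣ p ^ b - 1` normalize nontrivial `p`-subgroups -/
theorem normalizes {L : Type*} [Group L] [Finite L] {p s b : ℕ} (hp : p.Prime) (hs : s.Prime) (hs2 : s ≠ 2)
    (hcyc : ∀ P : Sylow s L, IsCyclic P) {F : Type*} [Field F] [Fintype F] (hF : Fintype.card F = p ^ b)
    (hd : s ∣ p ^ b - 1) (e : L ⧸ center L ≃* ProjectiveSpecialLinearGroup (Fin 2) F) {z : L} (hz : orderOf z = s) :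
    ∃ P : Subgroup L, P ≠ ⊥ ∧ IsPGroup p P ∧ ∀ x ∈ P, z * x * z⁻¹ ∈ P := by
  classical
  have := Fact.mk hp
  have := Fact.mk hs
  let π : L →* ProjectiveSpecialLinearGroup (Fin 2) F := e.toMonoidHom.comp (QuotientGroup.mk' (center L))
  have hπ : Function.Surjective π := e.surjective.comp (QuotientGroup.mk'_surjective _)
  have hker : π.ker ≤ center L := by
    intro x hx
    have h1 : e (QuotientGroup.mk' (center L) x) = 1 := hx
    rw [map_eq_one_iff e e.injective] at h1
    exact (QuotientGroup.eq_one_iff x).1 h1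
  let q : SpecialLinearGroup (Fin 2) F →* ProjectiveSpecialLinearGroup (Fin 2) F :=
    QuotientGroup.mk' (center (SpecialLinearGroup (Fin 2) F))
  let f : Multiplicative F →* ProjectiveSpecialLinearGroup (Fin 2) F := q.comp upp
  have hinj : Function.Injective f := by
    rw [injective_iff_map_eq_one]
    intro t ht
    have h1 : (upp t : SpecialLinearGroup (Fin 2) F) ∈ center (SpecialLinearGroup (Fin 2) F) :=
      (QuotientGroup.eq_one_iff _).1 ht
    rw [Matrix.SpecialLinearGroup.mem_center_iff] at h1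
    obtain ⟨r, _, hr⟩ := h1
    have h2 := congrArg (fun M : Matrix (Fin 2) (Fin 2) F => M 0 1) hr
    simp [upp] at h2
    exact Multiplicative.toAdd.injective (by rw [toAdd_one]; exact h2.symm)
  have hpg : IsPGroup p f.range := by
    apply IsPGroup.of_card (n := b)
    rw [← hF, ← Nat.card_eq_fintype_card]
    exact (Nat.card_congr (MonoidHom.ofInjective hinj).toEquiv).symm
  have hne : f.range ≠ ⊥ := by
    intro h
    have h1 : Nat.card f.range = Nat.card (Multiplicative F) := (Nat.card_congr (MonoidHom.ofInjective hinj).toEquiv).symm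
    rw [h, Subgroup.card_bot] at h1
    have h2 : Nat.card (Multiplicative F) = Nat.card F := Nat.card_congr Multiplicative.toAdd
    have h3 := Finite.one_lt_card (α := F)
    omega
  obtain ⟨a, ha⟩ : ∃ a : Fˣ, orderOf a = s := by
    apply exists_prime_orderOf_dvd_card' s
    rw [Nat.card_units, Nat.card_eq_fintype_card, hF]; exact hd
  set t : ProjectiveSpecialLinearGroup (Fin 2) F := q (diaHom a) with ht
  have hto : orderOf t = s := by
    apply orderOf_eq_prime
    · rw [ht, ← map_pow, ← map_pow, ← ha, pow_orderOf_eq_one, map_one, map_one]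
    · intro h
      exact diaHom_not_center hs hs2 ha ((QuotientGroup.eq_one_iff _).1 h)
  have htU : ∀ u ∈ f.range, t * u * t⁻¹ ∈ f.range := by
    rintro _ ⟨x, rfl⟩
    refine ⟨Multiplicative.ofAdd ((a : F) ^ 2 * Multiplicative.toAdd x), ?_⟩
    have := dia_conj a (Multiplicative.toAdd x)
    rw [ofAdd_toAdd] at this
    change q (upp _) = _
    rw [← this, map_mul, map_mul, map_inv]
    rfl
  have htU' : ∀ w ∈ zpowers t, ∀ u ∈ f.range, w * u * w⁻¹ ∈ f.range := by
    intro w hw u hu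
    have hN : t ∈ normalizer (f.range : Set (ProjectiveSpecialLinearGroup (Fin 2) F)) := by
      have h1 : f.range.map (MulAut.conj t).toMonoidHom = f.range := by
        apply Subgroup.eq_of_le_of_card_ge
        · rintro _ ⟨x, hx, rfl⟩
          exact htU x hx
        · rw [Subgroup.card_map_of_injective (MulAut.conj t).injective]
      rw [Subgroup.mem_normalizer_iff]
      intro h
      constructor
      · intro hh; exact htU h hh
      · intro hh
        rw [← h1] at hh
        obtain ⟨x, hx, hxe⟩ := hh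
        have : x = h := (MulAut.conj t).injective (by exact hxe)
        rwa [← this]
    exact (Subgroup.mem_normalizer_iff.1 ((zpowers_le.2 hN) hw) u).1 hu
  by_cases hz1 : π z = 1
  · exact lift_norm hp π hπ hker f.range hpg hne (by rw [hz1]; intro u hu; simpa using hu)
  have hzo : orderOf (π z) = s := by
    apply orderOf_eq_prime _ hz1
    rw [← map_pow, ← hz, pow_orderOf_eq_one, map_one]
  obtain ⟨g, hg⟩ := conj_of_cyclic hs (cyc_quot hs hcyc π hπ) hto hzo
  refine lift_norm hp π hπ hker (f.range.map (MulAut.conj g⁻¹).toMonoidHom) (hpg.map _) ?_ ?_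
  · intro h
    rw [Subgroup.map_eq_bot_iff_of_injective _ (MulAut.conj g⁻¹).injective] at h
    exact hne h
  · rintro _ ⟨u, hu, rfl⟩
    refine ⟨(g * π z * g⁻¹) * u * (g * π z * g⁻¹)⁻¹, ?_, ?_⟩
    · exact htU' _ (by rw [← hg]; exact Subgroup.mem_zpowers _) u hu
    · change g⁻¹ * ((g * π z * g⁻¹) * u * (g * π z * g⁻¹)⁻¹) * g⁻¹⁻¹ = π z * (g⁻¹ * u * g⁻¹⁻¹) * (π z)⁻¹
      group

/-- In `PSL₂(l)`: an element of order `l` conjugate to many of its powers. -/
theorem exists_split {L : Type*} [Group L] [Finite L] {l : ℕ} (hl : l.Prime)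
    (hcyc : ∀ P : Sylow l L, IsCyclic P) {F : Type*} [Field F] [Fintype F] (hF : Fintype.card F = l)
    (e : L ⧸ center L ≃* ProjectiveSpecialLinearGroup (Fin 2) F) :
    ∃ (u v : L) (i : ℕ), orderOf u = l ∧ v * u * v⁻¹ = u ^ i ∧ l - 1 ≤ 2 * orderOf (i : ZMod l) := by
  classical
  have := Fact.mk hl
  let π : L →* ProjectiveSpecialLinearGroup (Fin 2) F := e.toMonoidHom.comp (QuotientGroup.mk' (center L))
  have hπ : Function.Surjective π := e.surjective.comp (QuotientGroup.mk'_surjective _)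
  have hker : π.ker ≤ center L := by
    intro x hx
    have h1 : e (QuotientGroup.mk' (center L) x) = 1 := hx
    rw [map_eq_one_iff e e.injective] at h1
    exact (QuotientGroup.eq_one_iff x).1 h1
  let q : SpecialLinearGroup (Fin 2) F →* ProjectiveSpecialLinearGroup (Fin 2) F :=
    QuotientGroup.mk' (center (SpecialLinearGroup (Fin 2) F))
  have hchar : CharP F l := by
    obtain ⟨c, hc'⟩ := CharP.exists F
    obtain ⟨n, hcp, hn⟩ := FiniteField.card F c
    have : c = l := by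
      have h1 : c ∣ l := by
        rw [← hF, hn]; exact dvd_pow_self c n.ne_zero
      exact (Nat.prime_dvd_prime_iff_eq hcp hl).1 h1
    rwa [this] at hc'
  let φ : ZMod l ≃+* F := ZMod.ringEquivOfPrime F hl hF
  obtain ⟨a, ha⟩ := IsCyclic.exists_generator (α := Fˣ)
  set i : ℕ := (φ.symm ((a : F) ^ 2)).val with hi
  have hiF : (i : F) = (a : F) ^ 2 := by
    have h1 : ((i : ℕ) : ZMod l) = φ.symm ((a : F) ^ 2) := by rw [hi]; exact ZMod.natCast_zmod_val _
    have h2 := congrArg φ h1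
    rw [map_natCast, RingEquiv.apply_symm_apply] at h2
    exact h2
  have hupp : ∀ x : F, ∀ n : ℕ, (upp (Multiplicative.ofAdd x)) ^ n = upp (Multiplicative.ofAdd ((n : F) * x)) := by
    intro x n
    rw [← map_pow, ← ofAdd_nsmul, nsmul_eq_mul]
  set x : ProjectiveSpecialLinearGroup (Fin 2) F := q (upp (Multiplicative.ofAdd 1)) with hx
  have hxo : orderOf x = l := by
    apply orderOf_eq_prime
    · rw [hx, ← map_pow, hupp, CharP.cast_eq_zero, zero_mul, ofAdd_zero, map_one, map_one]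
    · intro h
      have h1 : (upp (Multiplicative.ofAdd (1 : F)) : SpecialLinearGroup (Fin 2) F) ∈ center (SpecialLinearGroup (Fin 2) F) :=
        (QuotientGroup.eq_one_iff _).1 h
      rw [Matrix.SpecialLinearGroup.mem_center_iff] at h1
      obtain ⟨r, _, hr⟩ := h1
      rw [coe_upp] at hr
      have h2 := congrArg (fun M : Matrix (Fin 2) (Fin 2) F => M 0 1) hr
      simp at h2
  obtain ⟨u, v, hu, huv, _⟩ := lift_rel hl hcyc π hπ hker (x := x) (t := q (diaHom a)) (i := i) hxo (by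
    rw [hx, ← map_pow, hupp, ← map_inv, ← map_mul, ← map_mul, dia_conj, hiF])
  refine ⟨u, v, i, hu, huv, ?_⟩
  have h1 : orderOf (i : ZMod l) = orderOf ((a : F) ^ 2) := by
    have h2 : orderOf (φ ((i : ZMod l))) = orderOf (i : ZMod l) :=
      orderOf_injective (φ : ZMod l →* F) φ.injective _
    rw [← h2, map_natCast, hiF]
  have h2 : orderOf a = l - 1 := by
    rw [orderOf_eq_card_of_forall_mem_zpowers ha, Nat.card_units, Nat.card_eq_fintype_card, hF]
  have h3 : orderOf ((a : F) ^ 2) = orderOf (a ^ 2) := by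
    rw [← Units.val_pow_eq_pow_val, orderOf_units]
  rw [h1, h3, orderOf_pow, h2]
  have h4 : Nat.gcd (l - 1) 2 ≤ 2 := Nat.gcd_le_right _ two_pos
  have h5 : Nat.gcd (l - 1) 2 ∣ l - 1 := Nat.gcd_dvd_left _ _
  obtain ⟨c, hc⟩ := h5
  have h6 : 0 < Nat.gcd (l - 1) 2 := Nat.gcd_pos_of_pos_right _ two_pos
  have h7 : (l - 1) / Nat.gcd (l - 1) 2 = c := Nat.div_eq_of_eq_mul_right h6 hc
  rw [h7]
  calc l - 1 = Nat.gcd (l - 1) 2 * c := hc
    _ ≤ 2 * c := Nat.mul_le_mul_right c h4

/-! ### The structural theorem -/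

/-- `K` has cyclic Sylow subgroups for all odd primes `≠ p` and (for odd `p`) no two commuting involutions. -/
structure Cyc (p : ℕ) (K : Type u) [Group K] : Prop where
  cyc : ∀ s : ℕ, s.Prime → s ≠ 2 → s ≠ p → ∀ P : Sylow s K, IsCyclic P
  inv : p = 2 ∨ ∀ a b : K, Commute a b → orderOf a = 2 → orderOf b = 2 → a = b

/-- **Structural core.** -/
theorem coreS {K : Type u} [Group K] [Finite K] {p r : ℕ} (hp : p.Prime) (hr : r.Prime)
    (hrp : r ≠ p) (hr2 : r ≠ 2) (hK : Cyc p K) (y : K) (hy : orderOf y = r)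
    (hF : y ∈ centralizer (fittingSubgroup K : Set K))
    (hout : ∀ L : Subgroup K, IsComponent L → ¬ r ∣ Nat.card (Cfsg.Out (↥L ⧸ center ↥L))) :
    (zpowers y).Normal ∨ ∃ L : Subgroup K, IsComponent L ∧ L.Normal ∧ y ∈ L ∧ y ∉ centralizer (L : Set K) ∧
      Shape p (↥L ⧸ center ↥L) ∧
      Nat.card K ∣ Nat.card (centralizer (L : Set K)) * Nat.card (MulAut (↥L ⧸ center ↥L)) ∧
      Nat.card (↥L ⧸ center ↥L) * Nat.card (centralizer (L : Set K)) ∣ Nat.card K := by
  rcases coreA hp hr hrp hr2 hK.cyc y hy hF hout with h | ⟨L, hL, hLn, hyL, hyC, hd⟩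
  · exact Or.inl h
  · exact Or.inr ⟨L, hL, hLn, hyL, hyC, shape hp hK.cyc hK.inv L hL.2, hd, card_comp L hLn⟩

/-- a sufficient condition for `hout` -/
theorem hout_of (hJ : OutJ1.{u}) {K : Type u} [Group K] [Finite K] {p r : ℕ} (hp : p.Prime) (hr : r.Prime)
    (hr2 : r ≠ 2) (hK : Cyc p K) (hv : (Nat.card K).factorization p < r) (L : Subgroup K) (hL : IsComponent L) :
    ¬ r ∣ Nat.card (Cfsg.Out (↥L ⧸ center ↥L)) := by
  have hsimple : IsSimpleGroup (↥L ⧸ center ↥L) := hL.2.2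
  refine out_not_dvd hJ (not_comm_of (quasisimple_quot_not_solvable hL.2)) hp hr hr2 (shape hp hK.cyc hK.inv L hL.2) ?_
  exact lt_of_le_of_lt (fac_le ((Subgroup.card_quotient_dvd_card _).trans (Subgroup.card_subgroup_dvd_card L))
    Nat.card_pos.ne') hv

/-- a second sufficient condition for `hout` -/
theorem hout_of' (hJ : OutJ1.{u}) {K : Type u} [Group K] [Finite K] {p r : ℕ} (hp : p.Prime) (hr : r.Prime)
    (hr2 : r ≠ 2) (hK : Cyc p K)
    (h1 : ∀ b : ℕ, b ≠ 0 → p ^ b ∣ Nat.card K →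
      (p ^ b) ^ 2 - 1 ∣ 2 * (Nat.card K / p ^ (Nat.card K).factorization p) → ¬ r ∣ b)
    (h2 : p = 2 → ∀ b : ℕ, Odd b → ((2 ^ b) ^ 2 + 1) * (2 ^ b - 1) ∣ Nat.card K → ¬ r ∣ b)
    (L : Subgroup K) (hL : IsComponent L) :
    ¬ r ∣ Nat.card (Cfsg.Out (↥L ⧸ center ↥L)) := by
  have hsimple : IsSimpleGroup (↥L ⧸ center ↥L) := hL.2.2
  have hS := shape hp hK.cyc hK.inv L hL.2
  have hZ := center_bot (not_comm_of (quasisimple_quot_not_solvable hL.2))
  have hdS : Nat.card (↥L ⧸ center ↥L) ∣ Nat.card K :=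
    (Subgroup.card_quotient_dvd_card _).trans (Subgroup.card_subgroup_dvd_card L)
  have hK0 : Nat.card K ≠ 0 := Nat.card_pos.ne'
  intro hd
  rcases hS with h | h | h | h | h
  · obtain ⟨F, iF, iF', b, hF, h4, ⟨e⟩⟩ := h
    obtain ⟨_, h5, h6⟩ := psl2_data hZ hp hF h4 e
    have hb : b ≠ 0 := by rintro rfl; rw [pow_zero] at h4; omega
    rw [h6] at hd
    rcases (Nat.Prime.dvd_mul hr).1 hd with h | h
    · refine h1 b hb ?_ ?_ h
      · refine Dvd.dvd.trans ?_ hdS
        have h7 : p ^ b ∣ Nat.card (↥L ⧸ center ↥L) * Nat.gcd 2 (p ^ b - 1) := by rw [h5]; exact dvd_mul_right _ _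
        refine Nat.Coprime.dvd_of_dvd_mul_right ?_ h7
        exact Nat.Coprime.pow_left b (Nat.Coprime.coprime_dvd_right (Nat.gcd_dvd_right _ _) (coprime_pow_sub_one hp hb))
      · have hcs : Nat.Coprime p ((p ^ b) ^ 2 - 1) := by
          rw [← pow_mul]; exact coprime_pow_sub_one hp (by positivity)
        have h8 : (p ^ b) ^ 2 - 1 ∣ 2 * Nat.card K := by
          have h9 : (p ^ b) ^ 2 - 1 ∣ Nat.card (↥L ⧸ center ↥L) * Nat.gcd 2 (p ^ b - 1) := by rw [h5]; exact dvd_mul_left _ _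
          rw [mul_comm 2]
          exact h9.trans (Nat.mul_dvd_mul hdS (Nat.gcd_dvd_left _ _))
        rw [← Nat.mul_div_cancel' (Nat.ordProj_dvd (Nat.card K) p), show 2 * (p ^ (Nat.card K).factorization p *
          (Nat.card K / p ^ (Nat.card K).factorization p)) = p ^ (Nat.card K).factorization p *
          (2 * (Nat.card K / p ^ (Nat.card K).factorization p)) by ring] at h8
        exact Nat.Coprime.dvd_of_dvd_mul_left (Nat.Coprime.pow_left _ hcs).symm h8
    · exact hr2 ((Nat.prime_dvd_prime_iff_eq hr Nat.prime_two).1 (h.trans (Nat.gcd_dvd_left _ _)))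
  · obtain ⟨F, iF, iF', hpr, hne, h5, ⟨e⟩⟩ := h
    obtain ⟨_, _, h3⟩ := psl2_data hZ (l := Fintype.card F) (b := 1) hpr (pow_one _).symm (by rw [pow_one]; omega) e
    rw [h3, one_mul] at hd
    exact hr2 ((Nat.prime_dvd_prime_iff_eq hr Nat.prime_two).1 (hd.trans (Nat.gcd_dvd_left _ _)))
  · obtain ⟨rfl, h⟩ := h
    obtain ⟨b, hb, hb3, hc, ho⟩ := suz_data hZ h
    rw [ho] at hd
    refine h2 rfl b hb ?_ hd
    refine Dvd.dvd.trans ?_ hdS
    rw [hc]
    exact ⟨(2 ^ b) ^ 2, by ring⟩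
  · obtain ⟨rfl, h⟩ := h
    rw [hJ _ h] at hd
    exact hr.one_lt.ne' (Nat.dvd_one.1 hd)
  · obtain ⟨_, ⟨e⟩⟩ := h
    rw [(a7_data hZ e).2] at hd
    exact hr2 ((Nat.prime_dvd_prime_iff_eq hr Nat.prime_two).1 hd)

/-- Conclusion of the final form: `v` is the exponent of `p` in `|K|`, `M` the `p'`-part of `|K|`. -/
def Res (p r c d : ℕ) (K : Type u) [Group K] (v M : ℕ) : Prop :=
  v ≤ c ∨
  (∃ l : ℕ, l.Prime ∧ 5 ≤ l ∧ l ≤ 2 * d + 1 ∧ r ≤ l ∧ p ^ v ≤ p ^ c * (l + 1)) ∨
  (p = 2 ∧ r ≤ 19 ∧ v ≤ c + 3) ∨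
  (p ≠ 2 ∧ r ≤ 7 ∧ p ^ v ≤ p ^ c * 9) ∨
  (∃ b : ℕ, 1 ≤ b ∧ 4 ≤ p ^ b ∧ v ≤ c + b ∧ (p ^ b) ^ 2 - 1 ∣ 2 * M ∧ r ∣ (p ^ b) ^ 2 - 1 ∧
    (∀ s : ℕ, s.Prime → s ≠ 2 → s ≠ p → s ∣ p ^ b - 1 → ∀ z : K, orderOf z = s →
      ∃ P : Subgroup K, P ≠ ⊥ ∧ IsPGroup p P ∧ ∀ x ∈ P, z * x * z⁻¹ ∈ P) ∧
    (∀ s : ℕ, s.Prime → s ≠ 2 → s ≠ p → ¬ s ∣ b → ∀ z : K, orderOf z = s →
      (∀ x w : K, Commute z x → Commute z w → Commute x w) → s ∣ (p ^ b) ^ 2 - 1)) ∨
  (p = 2 ∧ ∃ b : ℕ, Odd b ∧ 3 ≤ b ∧ v ≤ c + 2 * b ∧ ((2 ^ b) ^ 2 + 1) * (2 ^ b - 1) ∣ M ∧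
    r ∣ ((2 ^ b) ^ 2 + 1) * (2 ^ b - 1) ∧
    (∀ s : ℕ, s.Prime → s ≠ 2 → ¬ s ∣ b → ∀ z : K, orderOf z = s →
      (∀ x w : K, Commute z x → Commute z w → Commute x w) → s ∣ ((2 ^ b) ^ 2 + 1) * (2 ^ b - 1)))

theorem coprime_part {p n m : ℕ} (hc : Nat.Coprime p m) (h : m ∣ n) :
    m ∣ n / p ^ n.factorization p := by
  rw [← Nat.mul_div_cancel' (Nat.ordProj_dvd n p)] at h
  exact Nat.Coprime.dvd_of_dvd_mul_left (Nat.Coprime.pow_left _ hc).symm h

/-- **The core theorem, final form.** -/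
theorem coreF {K : Type u} [Group K] [Finite K] {p r c d : ℕ} (hp : p.Prime) (hr : r.Prime)
    (hrp : r ≠ p) (hr2 : r ≠ 2) (hK : Cyc p K) (hd : ∀ u : K, (orderOf u).Prime → orderOf u ≠ p → nc u ≤ d)
    (y : K) (hy : orderOf y = r) (hF : y ∈ centralizer (fittingSubgroup K : Set K))
    (hout : ∀ L : Subgroup K, IsComponent L → ¬ r ∣ Nat.card (Cfsg.Out (↥L ⧸ center ↥L)))
    (hN : (Nat.card (normalizer (zpowers y : Set K))).factorization p ≤ c) :
    Res p r c d K ((Nat.card K).factorization p) (Nat.card K / p ^ (Nat.card K).factorization p) := by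
  have hK0 : Nat.card K ≠ 0 := Nat.card_pos.ne'
  rcases coreS hp hr hrp hr2 hK y hy hF hout with h | ⟨L, hL, hLn, hyL, hyC, hS, _, _⟩
  · rw [Subgroup.normalizer_eq_top_iff.2 h, Subgroup.card_top] at hN
    exact Or.inl hN
  have hsimple : IsSimpleGroup (↥L ⧸ center ↥L) := hL.2.2
  have hnc := not_comm_of (quasisimple_quot_not_solvable hL.2)
  have hZ := center_bot hnc
  have hv := frattini_fac hr (hK.cyc r hr hr2 hrp) L hLn hy hyL hN
  have hrS := dvd_card_quot hr hy hyL hyC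
  have hdS : Nat.card (↥L ⧸ center ↥L) ∣ Nat.card K :=
    (Subgroup.card_quotient_dvd_card _).trans (Subgroup.card_subgroup_dvd_card L)
  have hS0 : Nat.card (↥L ⧸ center ↥L) ≠ 0 := Nat.card_pos.ne'
  -- elements with abelian centralizer do not centralize L
  have hcm : ∀ z : K, (∀ x w : K, Commute z x → Commute z w → Commute x w) → z ∉ centralizer (L : Set K) := by
    intro z hz hzL
    obtain ⟨a, b, hab⟩ := hnc
    obtain ⟨a, rfl⟩ := QuotientGroup.mk_surjective a
    obtain ⟨b, rfl⟩ := QuotientGroup.mk_surjective b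
    apply hab
    rw [← QuotientGroup.mk_mul, ← QuotientGroup.mk_mul]
    have h1 : Commute (a : K) (b : K) := hz a b (mem_centralizer_iff.1 hzL a a.2).symm (mem_centralizer_iff.1 hzL b b.2).symm
    have h2 : a * b = b * a := Subtype.ext h1
    rw [h2]
  have hpow : ∀ {n m : ℕ}, n ≤ m → p ^ n ≤ p ^ m := fun h => Nat.pow_le_pow_right hp.pos h
  rcases hS with h | h | h | h | h
  · -- L₂(p^b)
    obtain ⟨F, iF, iF', b, hF', h4, ⟨e⟩⟩ := h
    obtain ⟨_, h5, h6⟩ := psl2_data hZ hp hF' h4 e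
    have hb : b ≠ 0 := by rintro rfl; rw [pow_zero] at h4; omega
    have hq : p ^ b ≠ 0 := pow_ne_zero _ hp.ne_zero
    have hsq : (p ^ b) ^ 2 - 1 ≠ 0 := by
      have : 4 ^ 2 ≤ (p ^ b) ^ 2 := Nat.pow_le_pow_left h4 2
      omega
    have hcs : Nat.Coprime p ((p ^ b) ^ 2 - 1) := by
      rw [← pow_mul]; exact coprime_pow_sub_one hp (by positivity)
    have hfac : ∀ s : ℕ, s.Prime → s ≠ p → s ∣ Nat.card (↥L ⧸ center ↥L) → s ∣ (p ^ b) ^ 2 - 1 := by
      intro s hs hsp hsd
      have h7 : s ∣ p ^ b * ((p ^ b) ^ 2 - 1) := by rw [← h5]; exact hsd.mul_right _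
      refine ((Nat.Prime.dvd_mul hs).1 h7).resolve_left ?_
      intro h8
      exact hsp ((Nat.prime_dvd_prime_iff_eq hs hp).1 (hs.dvd_of_dvd_pow h8))
    refine Or.inr (Or.inr (Or.inr (Or.inr (Or.inl ⟨b, by omega, h4, ?_, ?_, ?_, ?_, ?_⟩))))
    · have h7 : (Nat.card (↥L ⧸ center ↥L)).factorization p ≤ b := by
        have h8 := fac_le (p := p) (Dvd.intro _ h5) (mul_ne_zero hq hsq)
        rw [Nat.factorization_mul hq hsq, Finsupp.add_apply, Nat.factorization_pow, Finsupp.smul_apply,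
          hp.factorization_self, Nat.factorization_eq_zero_of_not_dvd ((Nat.Prime.coprime_iff_not_dvd hp).1 hcs)] at h8
        simpa using h8
      omega
    · have h8 : (p ^ b) ^ 2 - 1 ∣ 2 * Nat.card K := by
        have h9 : (p ^ b) ^ 2 - 1 ∣ Nat.card (↥L ⧸ center ↥L) * Nat.gcd 2 (p ^ b - 1) := by rw [h5]; exact dvd_mul_left _ _
        rw [mul_comm 2]
        exact h9.trans (Nat.mul_dvd_mul hdS (Nat.gcd_dvd_left _ _))
      rw [← Nat.mul_div_cancel' (Nat.ordProj_dvd (Nat.card K) p), show 2 * (p ^ (Nat.card K).factorization p *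
        (Nat.card K / p ^ (Nat.card K).factorization p)) = p ^ (Nat.card K).factorization p *
        (2 * (Nat.card K / p ^ (Nat.card K).factorization p)) by ring] at h8
      exact Nat.Coprime.dvd_of_dvd_mul_left (Nat.Coprime.pow_left _ hcs).symm h8
    · exact hfac r hr hrp hrS
    · intro s hs hs2 hsp hsd z hz
      have hsS : s ∣ Nat.card (↥L ⧸ center ↥L) := by
        have h7 : s ∣ Nat.card (↥L ⧸ center ↥L) * Nat.gcd 2 (p ^ b - 1) := by
          rw [h5]
          have h8 : (p ^ b) ^ 2 - 1 = (p ^ b - 1) * (p ^ b + 1) := by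
            have := Nat.sq_sub_sq (p ^ b) 1
            rw [one_pow] at this
            rw [this, mul_comm]
          rw [h8]
          exact (hsd.mul_right _).mul_left _
        refine ((Nat.Prime.dvd_mul hs).1 h7).resolve_right fun h8 => ?_
        exact hs2 ((Nat.prime_dvd_prime_iff_eq hs Nat.prime_two).1 (h8.trans (Nat.gcd_dvd_left _ _)))
      have hzL := mem_of_dvd hs (hK.cyc s hs hs2 hsp) hLn hsS hz
      obtain ⟨P, hP1, hP2, hP3⟩ := normalizes hp hs hs2 (cyc_sub hs (hK.cyc s hs hs2 hsp) L) hF' hsd e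
        (z := ⟨z, hzL⟩) (by rw [Subgroup.orderOf_mk]; exact hz)
      refine ⟨P.map L.subtype, ?_, hP2.map _, ?_⟩
      · intro h
        rw [Subgroup.map_eq_bot_iff_of_injective _ L.subtype_injective] at h
        exact hP1 h
      · rintro _ ⟨x, hx, rfl⟩
        exact ⟨_, hP3 x hx, rfl⟩
    · intro s hs hs2 hsp hsb z hz hzc
      apply hfac s hs hsp
      refine dvd_of_not_cent hs hLn hL.2 ?_ hz (hcm z hzc)
      rw [h6]
      intro h7
      rcases (Nat.Prime.dvd_mul hs).1 h7 with h | h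
      · exact hsb h
      · exact hs2 ((Nat.prime_dvd_prime_iff_eq hs Nat.prime_two).1 (h.trans (Nat.gcd_dvd_left _ _)))
  · -- L₂(l)
    obtain ⟨F, iF, iF', hpr, hne, h5, ⟨e⟩⟩ := h
    set l := Fintype.card F with hl
    obtain ⟨_, h2, _⟩ := psl2_data hZ (l := l) (b := 1) hpr (by rw [pow_one]) (by rw [pow_one]; omega) e
    rw [pow_one] at h2
    have hodd : Odd l := hpr.odd_of_ne_two (by omega)
    have hl2 : l ≠ 2 := by omega
    have hfac : l ^ 2 - 1 = (l - 1) * (l + 1) := by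
      have := Nat.sq_sub_sq l 1
      rw [one_pow] at this
      rw [this, mul_comm]
    have hg : Nat.gcd 2 (l - 1) = 2 := by
      apply Nat.gcd_eq_left
      obtain ⟨k, hk⟩ := hodd
      exact ⟨k, by omega⟩
    rw [hg] at h2
    have hl0 : l ≠ 0 := by omega
    have hp1 : (l - 1) * (l + 1) ≠ 0 := mul_ne_zero (by omega) (by omega)
    obtain ⟨x, x', hxy, hx2, hx'⟩ := prod_bound (p := p) hp (l := l) (by omega)
    have hlp : l.factorization p = 0 := by
      apply Nat.factorization_eq_zero_of_not_dvd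
      intro h
      exact hne ((Nat.prime_dvd_prime_iff_eq hp hpr).1 h).symm
    have hps : p ^ (Nat.card (↥L ⧸ center ↥L)).factorization p ≤ l + 1 := by
      have h7 : (Nat.card (↥L ⧸ center ↥L) * 2).factorization p = x + x' := by
        rw [h2, hfac, Nat.factorization_mul hl0 hp1, Finsupp.add_apply, hxy, hlp, zero_add]
      rw [Nat.factorization_mul hS0 two_ne_zero, Finsupp.add_apply] at h7
      have hxx : x ≤ (2 : ℕ).factorization p := (hp.pow_dvd_iff_le_factorization two_ne_zero).1 hx2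
      exact (Nat.pow_le_pow_right hp.pos (by omega)).trans hx'
    refine Or.inr (Or.inl ⟨l, hpr, h5, ?_, ?_, ?_⟩)
    · obtain ⟨u, v, i, hu, huv, hi⟩ := exists_split hpr (cyc_sub hpr (hK.cyc l hpr hl2 hne) L) hl.symm e
      have hu' : orderOf (u : K) = l := by rw [Subgroup.orderOf_coe]; exact hu
      have h7 : (v : K) * u * (v : K)⁻¹ = (u : K) ^ i := congrArg Subtype.val huv
      have h8 := Nat.le_of_dvd (nc_pos _) (dvd_nc hu' h7)
      have h9 := hd (u : K) (by rw [hu']; exact hpr) (by rw [hu']; exact hne)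
      omega
    · have h7 : r ∣ l * ((l - 1) * (l + 1)) := by
        rw [← hfac, ← h2]; exact hrS.mul_right _
      rcases (Nat.Prime.dvd_mul hr).1 h7 with h | h
      · exact Nat.le_of_dvd (by omega) h
      rcases (Nat.Prime.dvd_mul hr).1 h with h | h
      · exact (Nat.le_of_dvd (by omega) h).trans (by omega)
      · have h8 : 2 ∣ l + 1 := by
          obtain ⟨k, hk⟩ := hodd
          exact ⟨k + 1, by omega⟩
        have h9 : 2 * r ∣ l + 1 := by
          apply Nat.Coprime.mul_dvd_of_dvd_of_dvd _ h8 h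
          exact ((Nat.coprime_primes Nat.prime_two hr).2 hr2.symm)
        have := Nat.le_of_dvd (by omega) h9
        omega
    · calc p ^ _ ≤ p ^ (c + (Nat.card (↥L ⧸ center ↥L)).factorization p) := hpow hv
        _ = p ^ c * p ^ (Nat.card (↥L ⧸ center ↥L)).factorization p := by rw [pow_add]
        _ ≤ p ^ c * (l + 1) := Nat.mul_le_mul le_rfl hps
  · -- Suzuki
    obtain ⟨rfl, h⟩ := h
    obtain ⟨b, hb, hb3, hc, ho⟩ := suz_data hZ h
    have hodd1 : ¬ 2 ∣ ((2 ^ b) ^ 2 + 1) * (2 ^ b - 1) := by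
      intro h2
      have he : 2 ∣ 2 ^ b := dvd_pow_self 2 (by omega)
      have h1 : 1 ≤ 2 ^ b := Nat.one_le_two_pow
      rcases (Nat.Prime.dvd_mul Nat.prime_two).1 h2 with h3 | h3
      · have h4 : 2 ∣ (2 ^ b) ^ 2 := dvd_pow he two_ne_zero
        omega
      · omega
    have hne : ((2 ^ b) ^ 2 + 1) * (2 ^ b - 1) ≠ 0 := fun h0 => hodd1 (by rw [h0]; exact dvd_zero 2)
    have hq : (2 ^ b) ^ 2 ≠ 0 := by positivity
    have hfac : ∀ s : ℕ, s.Prime → s ≠ 2 → s ∣ Nat.card (↥L ⧸ center ↥L) → s ∣ ((2 ^ b) ^ 2 + 1) * (2 ^ b - 1) := by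
      intro s hs hs2 hsd
      rw [hc, mul_assoc] at hsd
      refine ((Nat.Prime.dvd_mul hs).1 hsd).resolve_left ?_
      intro h8
      have h9 := hs.dvd_of_dvd_pow (hs.dvd_of_dvd_pow h8)
      exact hs2 ((Nat.prime_dvd_prime_iff_eq hs Nat.prime_two).1 h9)
    refine Or.inr (Or.inr (Or.inr (Or.inr (Or.inr ⟨rfl, b, hb, hb3, ?_, ?_, ?_, ?_⟩))))
    · have h1 : Nat.card (↥L ⧸ center ↥L) = (2 ^ b) ^ 2 * (((2 ^ b) ^ 2 + 1) * (2 ^ b - 1)) := by
        rw [hc]; ring
      have h2 : (((2 ^ b) ^ 2 + 1) * (2 ^ b - 1)).factorization 2 = 0 := Nat.factorization_eq_zero_of_not_dvd hodd1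
      have h3 : ((2 ^ b) ^ 2).factorization 2 = b * 2 := by
        rw [← pow_mul, Nat.factorization_pow, Finsupp.smul_apply, Nat.prime_two.factorization_self, smul_eq_mul, mul_one]
      rw [h1, Nat.factorization_mul hq hne, Finsupp.add_apply, h2, h3] at hv
      omega
    · apply coprime_part ((Nat.Prime.coprime_iff_not_dvd Nat.prime_two).2 hodd1)
      refine Dvd.dvd.trans ?_ hdS
      rw [hc]
      exact ⟨(2 ^ b) ^ 2, by ring⟩
    · exact hfac r hr hr2 hrS
    · intro s hs hs2 hsb z hz hzc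
      apply hfac s hs hs2
      refine dvd_of_not_cent hs hLn hL.2 ?_ hz (hcm z hzc)
      rw [ho]
      exact hsb
  · -- J₁
    obtain ⟨rfl, h⟩ := h
    have h1 : Nat.card (↥L ⧸ center ↥L) = 175560 := h.2
    have h2 : (175560 : ℕ).factorization 2 ≤ 3 := by
      by_contra hcon
      push Not at hcon
      have := (Nat.prime_two.pow_dvd_iff_le_factorization (n := 175560) (by norm_num)).2 hcon
      norm_num at this
    rw [h1] at hv hrS
    refine Or.inr (Or.inr (Or.inl ⟨rfl, ?_, by omega⟩))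
    have h3 : r ∣ 2 ^ 3 * (3 * 5 * 7 * 11 * 19) := by norm_num; exact hrS
    have hle : ∀ m : ℕ, 0 < m → m ≤ 19 → r ∣ m → r ≤ 19 := fun m hm hm' h => (Nat.le_of_dvd hm h).trans hm'
    rcases (Nat.Prime.dvd_mul hr).1 h3 with h | h
    · exact hle 2 (by norm_num) (by norm_num) (hr.dvd_of_dvd_pow h)
    · rcases (Nat.Prime.dvd_mul hr).1 h with h | h
      · rcases (Nat.Prime.dvd_mul hr).1 h with h | h
        · rcases (Nat.Prime.dvd_mul hr).1 h with h | h
          · rcases (Nat.Prime.dvd_mul hr).1 h with h | h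
            · exact hle _ (by norm_num) (by norm_num) h
            · exact hle _ (by norm_num) (by norm_num) h
          · exact hle _ (by norm_num) (by norm_num) h
        · exact hle _ (by norm_num) (by norm_num) h
      · exact hle _ (by norm_num) (by norm_num) h
  · -- A₇
    obtain ⟨hp2, ⟨e⟩⟩ := h
    have h7 : Nat.card (↥L ⧸ center ↥L) ∣ 5040 := by
      have h71 := card_mulAut hZ
      rw [(a7_data hZ e).1] at h71
      exact Dvd.intro _ h71.symm
    have hr7 : r ≤ 7 := by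
      have h3 : r ∣ 2 ^ 4 * (3 ^ 2 * 5 * 7) := by norm_num; exact hrS.trans h7
      rcases (Nat.Prime.dvd_mul hr).1 h3 with h | h
      · exact (Nat.le_of_dvd two_pos (hr.dvd_of_dvd_pow h)).trans (by norm_num)
      · rcases (Nat.Prime.dvd_mul hr).1 h with h | h
        · rcases (Nat.Prime.dvd_mul hr).1 h with h | h
          · exact (Nat.le_of_dvd (by norm_num) (hr.dvd_of_dvd_pow h)).trans (by norm_num)
          · exact (Nat.le_of_dvd (by norm_num) h).trans (by norm_num)
        · exact (Nat.le_of_dvd (by norm_num) h)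
    replace hv := hv.trans (Nat.add_le_add_left (fac_le h7 (by norm_num)) c)
    refine Or.inr (Or.inr (Or.inr (Or.inl ⟨hp2, hr7, ?_⟩)))
    calc p ^ _ ≤ p ^ (c + (5040 : ℕ).factorization p) := hpow hv
      _ = p ^ c * p ^ (5040 : ℕ).factorization p := pow_add _ _ _
      _ ≤ _ := Nat.mul_le_mul le_rfl (pow_5040_le hp hp2)

end Cfsg.Agent.H997.Rg
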