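import Cfsg.Agent.H997.Rg.Fam
import Cfsg.Agent.H899.Rg.UCent

/-!
# Residual case F-U in even dimension (helper997; S3691): abstract form
-/

set_option autoImplicit false

open Subgroup Cfsg

namespace Cfsg.Agent.H997.Rg

universe u

/-- fixed points of `⟨y⟩` on a subgroup -/
theorem card_modEq_cent {K : Type*} [Group K] [Finite K] {r : ℕ} (hr : r.Prime) {y : K}
    (hy : orderOf y = r) (A : Subgroup K) (hn : ∀ a ∈ A, y * a * y⁻¹ ∈ A) :
    Nat.card A ≡ Nat.card (A ⊓ centralizer ({y} : Set K) : Subgroup K) [MOD r] := by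
  classical
  have := Fact.mk hr
  have hN : zpowers y ≤ normalizer (A : Set K) := by
    rw [zpowers_le]
    have h1 : A.map (MulAut.conj y).toMonoidHom = A := by
      apply Subgroup.eq_of_le_of_card_ge
      · rintro _ ⟨x, hx, rfl⟩
        exact hn x hx
      · rw [Subgroup.card_map_of_injective (MulAut.conj y).injective]
    rw [Subgroup.mem_normalizer_iff]
    intro h
    constructor
    · intro hh; exact hn h hh
    · intro hh
      rw [← h1] at hh
      obtain ⟨x, hx, hxe⟩ := hh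
      have : x = h := (MulAut.conj y).injective (by exact hxe)
      rwa [← this]
  letI : MulAction (zpowers y) A :=
    { smul := fun g a => ⟨(g : K) * a * (g : K)⁻¹, (Subgroup.mem_normalizer_iff.1 (hN g.2) a).1 a.2⟩
      one_smul := fun a => by apply Subtype.ext; change ((1 : zpowers y) : K) * a * _ = _; simp
      mul_smul := fun g h a => by
        apply Subtype.ext
        change ((g * h : zpowers y) : K) * a * ((g * h : zpowers y) : K)⁻¹ = g * (h * a * (h : K)⁻¹) * (g : K)⁻¹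
        rw [Subgroup.coe_mul]; group }
  have hpy : IsPGroup r (zpowers y) := by
    rw [IsPGroup.iff_card]
    exact ⟨1, by rw [Nat.card_zpowers, hy, pow_one]⟩
  have h1 := hpy.card_modEq_card_fixedPoints A
  have h2 : Nat.card (MulAction.fixedPoints (zpowers y) A) = Nat.card (A ⊓ centralizer ({y} : Set K) : Subgroup K) := by
    refine Nat.card_congr ⟨fun a => ⟨(a.1 : K), a.1.2, ?_⟩, fun c => ⟨⟨c, c.2.1⟩, ?_⟩, fun a => rfl, fun c => rfl⟩
    · have h3 := congrArg Subtype.val (a.2 ⟨y, Subgroup.mem_zpowers y⟩)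
      have h4 : y * (a.1 : K) * y⁻¹ = a.1 := h3
      exact mem_centralizer_singleton_iff.2 (mul_inv_eq_iff_eq_mul.1 h4).symm
    · rintro ⟨g, hg⟩
      apply Subtype.ext
      change g * (c : K) * g⁻¹ = c
      obtain ⟨i, rfl⟩ := mem_zpowers_iff.1 hg
      have h3 : Commute y (c : K) := (mem_centralizer_singleton_iff.1 c.2.2).symm
      rw [(h3.zpow_left i).eq]; group
  rwa [h2] at h1

/-- `y` of order `r` centralizes a `p`-group of order less than `p ^ ord_r(p)` -/
theorem commute_of_small {K : Type*} [Group K] [Finite K] {p r : ℕ} (hp : p.Prime) (hr : r.Prime) (hrp : r ≠ p) {y : K}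
    (hy : orderOf y = r) (A : Subgroup K) (hA : IsPGroup p A) (hn : ∀ a ∈ A, y * a * y⁻¹ ∈ A)
    (hs : (Nat.card A).factorization p < orderOf (p : ZMod r)) : ∀ a ∈ A, Commute y a := by
  classical
  have := Fact.mk hp
  have := Fact.mk hr
  have h1 := card_modEq_cent hr hy A hn
  let C : Subgroup K := A ⊓ centralizer ({y} : Set K)
  change Nat.card A ≡ Nat.card C [MOD r] at h1
  obtain ⟨α, hα⟩ := IsPGroup.iff_card.1 hA
  have hC : IsPGroup p C := hA.to_le inf_le_left
  obtain ⟨β, hβ⟩ := IsPGroup.iff_card.1 hC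
  have hle : β ≤ α := by
    have h3 : Nat.card C ∣ Nat.card A := Subgroup.card_dvd_of_le inf_le_left
    rw [hα, hβ] at h3
    exact (Nat.pow_dvd_pow_iff_le_right hp.one_lt).1 h3
  have h3 : α = β := by
    rw [hα, hβ] at h1
    have h4 : p ^ β * p ^ (α - β) ≡ p ^ β * 1 [MOD r] := by
      rw [← pow_add, Nat.add_sub_cancel' hle, mul_one]; exact h1
    have h5 : Nat.Coprime r (p ^ β) := Nat.Coprime.pow_right _ ((Nat.coprime_primes hr hp).2 hrp)
    have h6 : p ^ (α - β) ≡ 1 [MOD r] := Nat.ModEq.cancel_left_of_coprime h5 h4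
    have h7 : orderOf (p : ZMod r) ∣ α - β := by
      apply orderOf_dvd_of_pow_eq_one
      have := (ZMod.natCast_eq_natCast_iff _ _ _).2 h6
      push_cast at this
      exact this
    have h8 : α - β = 0 := by
      by_contra h0
      have h9 := Nat.le_of_dvd (Nat.pos_of_ne_zero h0) h7
      rw [hα, Nat.factorization_pow, Finsupp.smul_apply, hp.factorization_self, smul_eq_mul, mul_one] at hs
      omega
    omega
  have h4 : C = A := Subgroup.eq_of_le_of_card_ge inf_le_left (by rw [hα, hβ, h3])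
  intro a ha
  have h5 : a ∈ C := by rw [h4]; exact ha
  exact (mem_centralizer_singleton_iff.1 h5.2).symm

/-- if `C(y)` is a `p'`-group, then `ord_r(p)` divides the exponent of the `p`-group -/
theorem dvd_of_cent {K : Type*} [Group K] [Finite K] {p r : ℕ} (hp : p.Prime) (hr : r.Prime) {y : K}
    (hy : orderOf y = r) (hcent : ¬ p ∣ Nat.card (centralizer ({y} : Set K))) (A : Subgroup K)
    (hn : ∀ a ∈ A, y * a * y⁻¹ ∈ A) {α : ℕ} (hα : Nat.card A = p ^ α) : orderOf (p : ZMod r) ∣ α := by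
  have h1 := card_modEq_cent hr hy A hn
  have h2 : Nat.card (A ⊓ centralizer ({y} : Set K) : Subgroup K) = 1 := by
    have h3 : Nat.card (A ⊓ centralizer ({y} : Set K) : Subgroup K) ∣ p ^ α := by
      rw [← hα]; exact Subgroup.card_dvd_of_le inf_le_left
    have h4 : Nat.card (A ⊓ centralizer ({y} : Set K) : Subgroup K) ∣ Nat.card (centralizer ({y} : Set K)) :=
      Subgroup.card_dvd_of_le inf_le_right
    have h5 : Nat.Coprime (p ^ α) (Nat.card (centralizer ({y} : Set K))) :=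
      Nat.Coprime.pow_left _ ((Nat.Prime.coprime_iff_not_dvd hp).2 hcent)
    exact Nat.dvd_one.1 (h5 ▸ Nat.dvd_gcd h3 h4)
  rw [h2, hα] at h1
  apply orderOf_dvd_of_pow_eq_one
  have := (ZMod.natCast_eq_natCast_iff _ _ _).2 h1
  push_cast at this
  exact this

/-- the core theorem for a given element -/
theorem res_gen {K : Type u} [Group K] [Finite K] {F V : Type*} [Field F] [Finite F] [AddCommGroup V]
    [Module F V] [FiniteDimensional F V] [Nontrivial V] {p r n : ℕ} [CharP F p] (ρ : K →* Module.End F V)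
    (hp : p.Prime) (h : Fpf p ρ) (hdim : Module.finrank F V = n) (hr : r.Prime) (hr5 : 5 ≤ r) (hrp : r ≠ p)
    {y : K} (hy : orderOf y = r) (hOp : ∀ a ∈ pCore p K, Commute y a)
    (hcent : ¬ p ∣ Nat.card (centralizer ({y} : Set K))) (hnc : nc y ∣ n)
    (hout : ∀ L : Subgroup K, IsComponent L → ¬ r ∣ Nat.card (Cfsg.Out (↥L ⧸ center ↥L))) :
    Res p r (n.factorization p) n K ((Nat.card K).factorization p) (Nat.card K / p ^ (Nat.card K).factorization p) := by
  have hn0 : n ≠ 0 := by rw [← hdim]; exact (Module.finrank_pos (R := F) (M := V)).ne'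
  have hKc : Cyc p K := by
    refine ⟨fun s hs hs2 hsp P => h.cyc hp hs hs2 hsp P, ?_⟩
    by_cases h2 : p = 2
    · exact Or.inl h2
    · exact Or.inr fun a b hab ha hb => h.inv hp h2 a b hab ha hb
  have hF := h.fit hp hr hr5 hrp hy hOp
  have hN : (Nat.card (normalizer (zpowers y : Set K))).factorization p ≤ n.factorization p := by
    rw [card_nc, Nat.factorization_mul Nat.card_pos.ne' (nc_pos y).ne', Finsupp.add_apply,
      Nat.factorization_eq_zero_of_not_dvd hcent, zero_add]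
    exact fac_le hnc hn0
  exact coreF hp hr hrp (by omega) hKc (d := n) (fun u hu hup => (h.nc_le hu hup rfl).trans hdim.le) y hy hF hout hN

theorem Fpf.toCyc {K : Type u} [Group K] [Finite K] {F V : Type*} [Field F] [AddCommGroup V]
    [Module F V] [Nontrivial V] {p : ℕ} [CharP F p] {ρ : K →* Module.End F V} (hp : p.Prime) (h : Fpf p ρ) : Cyc p K := by
  refine ⟨fun s hs hs2 hsp P => h.cyc hp hs hs2 hsp P, ?_⟩
  by_cases h2 : p = 2
  · exact Or.inl h2
  · exact Or.inr fun a b hab ha hb => h.inv hp h2 a b hab ha hb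

theorem Res.bc {p r n v M : ℕ} {K : Type u} [Group K] (hp : p.Prime) (hres : Res p r (n.factorization p) n K v M)
    (hA0 : n.factorization p < v) (hA1 : r ≤ 2 * n + 1 → p ^ n.factorization p * (2 * n + 2) < p ^ v)
    (hA2 : r ≤ 19 → p ^ n.factorization p * 9 < p ^ v) :
    (∃ b : ℕ, 1 ≤ b ∧ 4 ≤ p ^ b ∧ v ≤ n.factorization p + b ∧ (p ^ b) ^ 2 - 1 ∣ 2 * M ∧ r ∣ (p ^ b) ^ 2 - 1 ∧
    (∀ s : ℕ, s.Prime → s ≠ 2 → s ≠ p → s ∣ p ^ b - 1 → ∀ z : K, orderOf z = s →
      ∃ P : Subgroup K, P ≠ ⊥ ∧ IsPGroup p P ∧ ∀ x ∈ P, z * x * z⁻¹ ∈ P)) ∨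
    (p = 2 ∧ ∃ b : ℕ, Odd b ∧ 3 ≤ b ∧ v ≤ n.factorization p + 2 * b ∧ ((2 ^ b) ^ 2 + 1) * (2 ^ b - 1) ∣ M ∧
    r ∣ ((2 ^ b) ^ 2 + 1) * (2 ^ b - 1) ∧
    (∀ s : ℕ, s.Prime → s ≠ 2 → ¬ s ∣ b → ∀ z : K, orderOf z = s →
      (∀ x w : K, Commute z x → Commute z w → Commute x w) → s ∣ ((2 ^ b) ^ 2 + 1) * (2 ^ b - 1))) := by
  rcases hres with h1 | ⟨l, hl, hl5, hld, hrl, hpl⟩ | ⟨h2, hr19, h3⟩ | ⟨h2, hr7, h3⟩ |
      ⟨b, hb1, hb4, hvb, hdM, hrb, hs, _⟩ | ⟨h2, b, hbo, hb3, hvb, hdM, hrb, hs⟩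
  · omega
  · have h1 : p ^ n.factorization p * (2 * n + 2) < p ^ v := hA1 (hrl.trans hld)
    have h2 : p ^ n.factorization p * (l + 1) ≤ p ^ n.factorization p * (2 * n + 2) := Nat.mul_le_mul le_rfl (by omega)
    exact absurd (hpl.trans h2) (not_le.2 h1)
  · have h1 : p ^ n.factorization p * 9 < p ^ v := hA2 hr19
    have h4 : p ^ v ≤ p ^ n.factorization p * 9 := by
      calc p ^ v ≤ p ^ (n.factorization p + 3) := Nat.pow_le_pow_right hp.pos h3
        _ = p ^ n.factorization p * 8 := by rw [pow_add, h2]; norm_num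
        _ ≤ _ := Nat.mul_le_mul le_rfl (by norm_num)
    exact absurd h4 (not_le.2 h1)
  · have h1 : p ^ n.factorization p * 9 < p ^ v := hA2 (hr7.trans (by norm_num))
    exact absurd h3 (not_le.2 h1)
  · exact Or.inl ⟨b, hb1, hb4, hvb, hdM, hrb, hs⟩
  · exact Or.inr ⟨h2, b, hbo, hb3, hvb, hdM, hrb, hs⟩

/-! ### orders of `-q` -/

theorem orderOf_neg_four {R : Type*} [Field R] {x : R} {k : ℕ} (hk : 0 < k) (hx : orderOf x = 4 * k) :
    orderOf (-x) = 4 * k := by
  have h1 : x ^ (2 * k) = -1 := by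
    have h3 : x ^ (2 * k) * x ^ (2 * k) = 1 := by
      rw [← pow_add, show 2 * k + 2 * k = 4 * k by ring, ← hx, pow_orderOf_eq_one]
    rcases mul_self_eq_one_iff.1 h3 with h4 | h4
    · have h5 := orderOf_dvd_of_pow_eq_one h4
      rw [hx] at h5
      have := Nat.le_of_dvd (by omega) h5
      omega
    · exact h4
  have h4 : -x = x ^ (2 * k + 1) := by rw [pow_succ, h1]; ring
  have h5 : (orderOf x).Coprime (2 * k + 1) := by
    rw [hx]
    have h6 : Nat.Coprime 2 (2 * k + 1) := by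
      rw [Nat.Prime.coprime_iff_not_dvd Nat.prime_two]; omega
    have h7 : Nat.Coprime (2 * k) (2 * k + 1) := by
      rw [Nat.coprime_self_add_right]; exact Nat.coprime_one_right _
    rw [show 4 * k = 2 * (2 * k) by ring]
    exact Nat.Coprime.mul_left h6 h7
  rw [h4, h5.orderOf_pow, hx]

theorem orderOf_neg_odd {R : Type*} [Field R] (h2 : ringChar R ≠ 2) {x : R} {k : ℕ} (hk : Odd k) (hx : orderOf x = k) :
    orderOf (-x) = 2 * k := by
  have h3 : orderOf (-1 : R) = 2 := by rw [orderOf_neg_one, if_neg h2]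
  have h4 : Nat.Coprime (orderOf (-1 : R)) (orderOf x) := by
    rw [h3, hx]
    exact Nat.coprime_two_left.2 hk
  rw [neg_eq_neg_one_mul, (Commute.all (-1) x).orderOf_mul_eq_mul_orderOf_of_coprime h4, h3, hx]

theorem hcanc {p w w' v x : ℕ} (hp : p.Prime) (hw : w ≤ v + w') (hx : p ^ w' * x < p ^ w) : x < p ^ v := by
  have h1 : p ^ w ≤ p ^ w' * p ^ v := by
    rw [← pow_add]; exact Nat.pow_le_pow_right hp.pos (by omega)
  exact Nat.lt_of_mul_lt_mul_left (lt_of_lt_of_le hx h1)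

/-- **F-U**, `4 ∣ N` -/
theorem fu_four_abs (hJ : OutJ1.{u}) {K : Type u} [Group K] [Finite K] {F V : Type*} [Field F] [Finite F] [AddCommGroup V]
    [Module F V] [FiniteDimensional F V] {p f N : ℕ} [CharP F p] (ρ : K →* Module.End F V)
    (hinj : Function.Injective ρ) (hp : p.Prime) (hf : 1 ≤ f) (hN : 4 ≤ N) (hN4 : 4 ∣ N) (hS : SzL N (p ^ f))
    (hF : Nat.card F = (p ^ f) ^ 2) (hdim : Module.finrank F V = N) (h : Fpf p ρ) (B : V → V → F)
    (hBl : ∀ u v w, B (u + v) w = B u w + B v w) (hBr : ∀ u v w, B u (v + w) = B u v + B u w)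
    (hBsl : ∀ (c : F) v w, B (c • v) w = c * B v w) (hBsr : ∀ (c : F) v w, B v (c • w) = c ^ (p ^ f) * B v w)
    (hBn : ∀ v, (∀ w, B v w = 0) → v = 0) (hBK : ∀ g v w, B (ρ g v) (ρ g w) = B v w)
    {r : ℕ} (hr : r.Prime) (ha : orderOf (p : ZMod r) = f * N) (hrK : r ∣ Nat.card K) {c g : ℕ} (hc0 : c ≠ 0)
    (hcard : Nat.card K * c = g * (p ^ (f * (N - 1)) * (p ^ (f * N) - 1)))
    (hc : c.factorization p ≤ (2 * f).factorization p) (hg : ¬ p ∣ g) (hgN : g ≤ N) : False := by
  have := Fact.mk hr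
  have := Fact.mk hp
  have hnt : Nontrivial V := Module.nontrivial_of_finrank_pos (R := F) (by omega)
  have hfN : f * N ≠ 0 := by positivity
  obtain ⟨h1, h2, h3⟩ := card_num hp Nat.card_pos.ne' hc0 hcard hg (not_dvd_sub_one hp hfN) hc
  have hfN1 : f * (N - 1) + f = f * N := by
    obtain ⟨k, rfl⟩ : ∃ k, N = k + 1 := ⟨N - 1, by omega⟩
    rw [Nat.add_sub_cancel]; ring
  have hfN2 : f * (N - 2) + 2 * f = f * N := by
    obtain ⟨k, rfl⟩ : ∃ k, N = k + 2 := ⟨N - 2, by omega⟩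
    rw [Nat.add_sub_cancel]; ring
  have hfN3 : 4 ≤ f * N := by nlinarith
  have hn2 := szl_n2 hp hf (by omega) hS
  have hrp : r ≠ p := ne_of_orderOf hp ha (by omega)
  have har := lt_of_orderOf hr hrp hp ha
  obtain ⟨y, hy⟩ := exists_prime_orderOf_dvd_card' (G := K) r hrK
  have hord : orderOf (-((p ^ f : ℕ) : ZMod r)) = Module.finrank F V := by
    obtain ⟨k, hk⟩ := hN4
    rw [hdim, hk]
    apply orderOf_neg_four (by omega)
    rw [← hk]
    exact order_card hf ha
  obtain ⟨hcent, hnc, _⟩ := Cfsg.Agent.H899.Rg.ucent hp hF ρ hinj h B hBl hBr hBsl hBsr hBn hBK hr hrp hy hord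
  rw [hdim] at hnc
  have hOp : ∀ a ∈ pCore p K, Commute y a := by
    apply commute_of_small hp hr hrp hy (pCore p K) (Cfsg.Agent.Lib.Cores.pCore_isPGroup p)
    · intro a ha
      exact (Cfsg.Agent.Lib.Cores.pCore_normal (G := K) p).conj_mem a ha y
    · rw [ha]
      have h4 := fac_le (p := p) (Subgroup.card_subgroup_dvd_card (pCore p K)) Nat.card_pos.ne'
      omega
  have hres := res_gen ρ hp h hdim hr (by omega) hrp hy hOp hcent hnc
    (hout_of hJ hp hr (by omega) (h.toCyc hp) (by omega))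
  have hnQ := szl_nQ hp hf (by omega) hS
  have hM : Nat.card K / p ^ (Nat.card K).factorization p ≤ N * (p ^ (f * N) + 1) :=
    h3.trans (Nat.mul_le_mul hgN (by omega))
  have hM0 : 0 < Nat.card K / p ^ (Nat.card K).factorization p := Nat.ordCompl_pos p Nat.card_pos.ne'
  rcases hres.bc hp (by omega) (fun _ => hcanc hp h2 (szl_n1 hp hf (by omega) hS (by omega)))
      (fun _ => hcanc hp h2 (szl_n1 hp hf (by omega) hS (by omega))) with
      ⟨b, hb1, hb4, hvb, hdM, hrb, _⟩ | ⟨h2, b, hbo, hb3, hvb, hdM, hrb, _⟩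
  · have := plus_B hp ha hnQ hM hrb (Nat.le_of_dvd (by omega) hdM)
    omega
  · subst h2
    have := plus_C ha hnQ hM hrb (Nat.le_of_dvd hM0 hdM)
    omega

end Cfsg.Agent.H997.Rg
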