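import Cfsg.Agent.H997.Rg.UE

/-!
# Residual case F-U in dimension `N = 2 n`, `n` odd (helper997; S3691): abstract form
-/

set_option autoImplicit false

open Subgroup Cfsg

namespace Cfsg.Agent.H997.Rg

universe u

/-! ### Numbers -/

theorem half {p f n : ℕ} (hp : p.Prime) (hf : 1 ≤ f) (hn : 2 ≤ n) (hS : SzL (2 * n) (p ^ f)) :
    4 * f * n < p ^ (f * (n - 1)) := by
  have h1 := star (by omega) hf (Nat.pow_le_pow_left hp.two_le f) hS
  have h2 : (4 * f * n) ^ 2 < (p ^ (f * (n - 1))) ^ 2 := by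
    calc (4 * f * n) ^ 2 = 4 * f ^ 2 * (2 * n) ^ 2 := by ring
      _ < (p ^ f) ^ (2 * n - 2) := h1
      _ = (p ^ (f * (n - 1))) ^ 2 := by
        rw [← pow_mul, ← pow_mul]; congr 1
        obtain ⟨k, rfl⟩ : ∃ k, n = k + 2 := ⟨n - 2, by omega⟩
        rw [show 2 * (k + 2) - 2 = 2 * (k + 1) by omega, show k + 2 - 1 = k + 1 by omega]; ring
  exact lt_of_pow_lt_pow_left₀ 2 (by positivity) h2

theorem card_num' {p n c g T w w' : ℕ} (hp : p.Prime) (hn : n ≠ 0) (hc : c ≠ 0) (h : n * c = g * (p ^ w * T)) (hg : ¬ p ∣ g)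
    (hT : ¬ p ∣ T) (hcw : c.factorization p ≤ w') :
    n.factorization p ≤ w ∧ w ≤ n.factorization p + w' ∧ n / p ^ n.factorization p ∣ g * T := by
  obtain ⟨h1, h2, _⟩ := card_num hp hn hc h hg hT hcw
  refine ⟨h1, h2, ?_⟩
  have h3 : n / p ^ n.factorization p ∣ p ^ w * (g * T) := by
    have h4 : n / p ^ n.factorization p ∣ n * c := (Nat.div_dvd_of_dvd (Nat.ordProj_dvd _ _)).mul_right _
    rw [h] at h4
    rwa [show p ^ w * (g * T) = g * (p ^ w * T) by ring]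
  exact Nat.Coprime.dvd_of_dvd_mul_left (Nat.Coprime.pow_left _ (Nat.coprime_ordCompl hp hn)).symm h3

/-- the prime `r` does not divide `b` -/
theorem no_dvd_b {p r e C g b M : ℕ} (hp : p.Prime) (hr : r.Prime) (he : 1 ≤ e) (her : e < r) (hb2 : b < 2 * e)
    (hb0 : b ≠ 0) (hg : g ≤ C) (hg0 : 0 < g) (hQ : 2 * C < (p ^ e) ^ 2) (hM : M ∣ g * (p ^ (2 * e) - 1))
    (hb : (p ^ b) ^ 2 - 1 ∣ 2 * M) : ¬ r ∣ b := by
  rintro ⟨k, rfl⟩
  have hk : k = 1 := by
    have : k ≠ 0 := by rintro rfl; exact hb0 (mul_zero _)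
    by_contra hk1
    have : 2 ≤ k := by omega
    have := Nat.mul_le_mul_left r this
    omega
  subst hk
  rw [mul_one] at hb hb2
  have h1 : (p ^ r) ^ 2 - 1 ∣ (p ^ (2 * e) - 1) * (2 * g) := by
    refine hb.trans ((Nat.mul_dvd_mul_left 2 hM).trans ?_)
    exact ⟨1, by ring⟩
  have h2 := Nat.dvd_gcd_mul_iff_dvd_mul.2 h1
  rw [← pow_mul, Nat.pow_sub_one_gcd_pow_sub_one] at h2
  have h3 : Nat.Coprime r e := (Nat.Prime.coprime_iff_not_dvd hr).2 (fun h => by have := Nat.le_of_dvd he h; omega)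
  rw [show r * 2 = 2 * r by ring, Nat.gcd_mul_left, h3.gcd_eq_one, mul_one] at h2
  have hp2 : 4 ≤ p ^ 2 := by have := hp.two_le; nlinarith
  have h4 := Nat.le_of_dvd (Nat.mul_pos (by omega) (by omega)) h2
  have h5 : (p ^ e) ^ 2 * p ^ 2 ≤ p ^ (2 * r) := by
    rw [← pow_mul, ← pow_add]; exact Nat.pow_le_pow_right hp.pos (by omega)
  have h6 : (p ^ 2 - 1) * (2 * g) + 2 * g ≤ p ^ 2 * (2 * C) := by
    calc (p ^ 2 - 1) * (2 * g) + 2 * g = (p ^ 2 - 1 + 1) * (2 * g) := by ring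
      _ = p ^ 2 * (2 * g) := by rw [Nat.sub_add_cancel (by omega)]
      _ ≤ _ := Nat.mul_le_mul_left _ (by omega)
  have h7 : p ^ 2 * (2 * C) + p ^ 2 ≤ (p ^ e) ^ 2 * p ^ 2 := by
    have : 2 * C + 1 ≤ (p ^ e) ^ 2 := hQ
    nlinarith
  omega

theorem dvd_sq {b : ℕ} {r : ℕ} (h : r ∣ ((2 ^ b) ^ 2 + 1) * (2 ^ b - 1)) : r ∣ 2 ^ (b * 4) - 1 := by
  have h0 : (2 ^ b) ^ 2 - 1 = (2 ^ b + 1) * (2 ^ b - 1) := by
    have := Nat.sq_sub_sq (2 ^ b) 1
    rwa [one_pow] at this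
  have h0' : 2 ^ (b * 4) - 1 = ((2 ^ b) ^ 2 + 1) * ((2 ^ b) ^ 2 - 1) := by
    have := Nat.sq_sub_sq ((2 ^ b) ^ 2) 1
    rw [one_pow] at this
    rw [show b * 4 = b * 2 * 2 by ring, pow_mul, pow_mul, this]
  rw [h0', h0]
  refine h.trans ?_
  exact ⟨2 ^ b + 1, by ring⟩

/-- Suzuki case: size -/
theorem suz_size {e C b M : ℕ} (hC : C + 1 < 2 ^ e) (hM : M ≤ C * (2 ^ (2 * e) + 1))
    (hb : ((2 ^ b) ^ 2 + 1) * (2 ^ b - 1) ≤ M) : b < e := by
  by_contra hbe
  push Not at hbe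
  have h1 : 2 ^ e ≤ 2 ^ b := Nat.pow_le_pow_right two_pos hbe
  have h2 : 2 ^ (2 * e) ≤ (2 ^ b) ^ 2 := by rw [mul_comm, pow_mul]; exact Nat.pow_le_pow_left h1 2
  have h3 : (2 ^ (2 * e) + 1) * (C + 1) ≤ ((2 ^ b) ^ 2 + 1) * (2 ^ b - 1) := Nat.mul_le_mul (by omega) (by omega)
  have h4 : (2 ^ (2 * e) + 1) * (C + 1) ≤ (2 ^ (2 * e) + 1) * C := by
    rw [mul_comm _ C]; exact h3.trans (hb.trans hM)
  have := Nat.le_of_mul_le_mul_left h4 (by positivity)
  omega

/-- the prime `r` does not divide `b`: Suzuki groups -/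
theorem no_dvd_b2 {r e C b n : ℕ} (hn : n ≠ 0) (her : e < r) (hb0 : Odd b) (hC : C + 1 < 2 ^ e)
    (hM : n / 2 ^ n.factorization 2 ≤ C * (2 ^ (2 * e) + 1))
    (hb : ((2 ^ b) ^ 2 + 1) * (2 ^ b - 1) ∣ n) : ¬ r ∣ b := by
  intro h
  have h0 : b ≠ 0 := by rintro rfl; simp at hb0
  have h1 := Nat.le_of_dvd (Nat.pos_of_ne_zero h0) h
  have hc : Nat.Coprime 2 (((2 ^ b) ^ 2 + 1) * (2 ^ b - 1)) := by
    apply Nat.Coprime.mul_right
    · rw [← pow_mul]
      exact (Nat.Prime.coprime_iff_not_dvd Nat.prime_two).2 (not_dvd_add_one Nat.prime_two (by positivity))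
    · exact coprime_pow_sub_one Nat.prime_two h0
  have h2 := Nat.le_of_dvd (Nat.ordCompl_pos 2 hn) (coprime_part hc hb)
  have := suz_size hC hM h2
  omega

theorem three_case {n f b e M : ℕ} (hn : 3 ≤ n) (hno : Odd n) (hbo : Odd b) (he : e = f * n) (hb : b * 4 = e * 3)
    (hM : M ≤ 2 * n * (2 ^ (2 * e) - 1)) (hD : ((2 ^ b) ^ 2 + 1) * (2 ^ b - 1) ≤ M) : False := by
  subst he
  have h1 : 4 ∣ f := by
    have h2 : 4 ∣ f * (n * 3) := ⟨b, by rw [← mul_assoc, ← hb, mul_comm]⟩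
    refine Nat.Coprime.dvd_of_dvd_mul_right ?_ h2
    rw [show 4 = 2 ^ 2 by norm_num]
    apply Nat.Coprime.pow_left
    rw [Nat.coprime_two_left]
    exact hno.mul (by decide)
  obtain ⟨f', rfl⟩ := h1
  have hf' : 1 ≤ f' := by
    by_contra h0
    have : f' = 0 := by omega
    subst this
    simp at hb
    rw [hb] at hbo
    simp at hbo
  have hb' : b = f' * n * 3 := by
    have : b * 4 = (f' * n * 3) * 4 := by rw [hb]; ring
    omega
  subst hb'
  obtain ⟨x, hx⟩ : ∃ x, 2 ^ (f' * n) = x := ⟨_, rfl⟩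
  have h2n : 2 * n < 2 ^ n := by
    clear hbo hb hM hD hno hx
    induction n, hn using Nat.le_induction with
    | base => norm_num
    | succ k hk ih => rw [pow_succ]; omega
  have hx1 : 2 * n < x := by
    rw [← hx]
    exact lt_of_lt_of_le h2n (Nat.pow_le_pow_right two_pos (Nat.le_mul_of_pos_left _ hf'))
  rw [pow_mul, hx] at hD
  rw [show 2 * (4 * f' * n) = f' * n * 8 by ring, pow_mul, hx] at hM
  have h3 : 2 * n * (x ^ 8 - 1) ≤ (x - 1) * (x ^ 8 - 1) := Nat.mul_le_mul_right _ (by omega)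
  have h4 := hD.trans (hM.trans h3)
  have h5 : x ^ 3 - 1 = (x - 1) * (x ^ 2 + x + 1) := by
    obtain ⟨y, rfl⟩ : ∃ y, x = y + 1 := ⟨x - 1, by omega⟩
    rw [Nat.add_sub_cancel]
    have : (y + 1) ^ 3 = y * ((y + 1) ^ 2 + (y + 1) + 1) + 1 := by ring
    omega
  rw [h5, show ((x ^ 3) ^ 2 + 1) * ((x - 1) * (x ^ 2 + x + 1)) = (x - 1) * (((x ^ 3) ^ 2 + 1) * (x ^ 2 + x + 1)) by ring] at h4
  have h6 := Nat.le_of_mul_le_mul_left h4 (by omega)
  have h7 : x ^ 8 ≤ ((x ^ 3) ^ 2 + 1) * (x ^ 2 + x + 1) := by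
    have : ((x ^ 3) ^ 2 + 1) * (x ^ 2 + x + 1) = x ^ 8 + (x ^ 7 + x ^ 6 + x ^ 2 + x + 1) := by ring
    omega
  have h8 : 1 ≤ x ^ 8 := Nat.one_le_pow _ _ (by omega)
  omega

theorem ind_two {n : ℕ} (hn : 7 ≤ n) : 2 * (2 * n + 2) < 2 ^ (n - 1) := by
  induction n, hn using Nat.le_induction with
  | base => norm_num
  | succ k hk ih =>
    obtain ⟨j, rfl⟩ : ∃ j, k = j + 1 := ⟨k - 1, by omega⟩
    rw [Nat.add_sub_cancel] at ih ⊢
    rw [pow_succ]; omega

theorem ind_three {n : ℕ} (hn : 5 ≤ n) : n * (2 * n + 2) < 3 ^ (n - 1) := by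
  induction n, hn using Nat.le_induction with
  | base => norm_num
  | succ k hk ih =>
    obtain ⟨j, rfl⟩ : ∃ j, k = j + 1 := ⟨k - 1, by omega⟩
    rw [Nat.add_sub_cancel] at ih ⊢
    rw [pow_succ]; nlinarith

/-- `f = 1` -/
theorem nA1 {p n : ℕ} (hp : p.Prime) (hn : 3 ≤ n) (hno : Odd n) (hS : SzL (2 * n) (p ^ 1)) :
    p ^ (2 * 1).factorization p * (p ^ n.factorization p * (2 * n + 2)) < p ^ (1 * (n - 1)) := by
  obtain ⟨_, _, _, h6, _, _, h10⟩ := hS
  rw [pow_one] at h6 h10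
  rw [one_mul, mul_one]
  by_cases hp2 : p = 2
  · subst hp2
    have h1 : (2 : ℕ).factorization 2 = 1 := Nat.prime_two.factorization_self
    have h2 : n.factorization 2 = 0 := Nat.factorization_eq_zero_of_not_dvd (by
      rw [← even_iff_two_dvd]; exact Nat.not_even_iff_odd.2 hno)
    rw [h1, h2, pow_one, pow_zero, one_mul]
    apply ind_two
    by_contra hcon
    obtain ⟨k, rfl⟩ := hno
    have : k = 1 ∨ k = 2 := by omega
    rcases this with rfl | rfl
    · have := h6 (by norm_num); omega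
    · have := h10 (by norm_num); omega
  · have h1 : (2 : ℕ).factorization p = 0 := Nat.factorization_eq_zero_of_not_dvd (fun h =>
      hp2 ((Nat.prime_dvd_prime_iff_eq hp Nat.prime_two).1 h))
    rw [h1, pow_zero, one_mul]
    refine lt_of_le_of_lt (Nat.mul_le_mul_right _ (pow_fac_le (by omega))) ?_
    have hp3 : 3 ≤ p := by have := hp.two_le; omega
    rcases Nat.lt_or_ge n 5 with h5 | h5
    · obtain ⟨k, rfl⟩ := hno
      have : k = 1 := by omega
      subst this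
      have h7 := h6 (by norm_num)
      norm_num
      have : 8 ^ 2 ≤ p ^ 2 := Nat.pow_le_pow_left (by omega) 2
      omega
    · exact lt_of_lt_of_le (ind_three h5) (Nat.pow_le_pow_left hp3 _)

theorem nA2 {p f n : ℕ} (hp : p.Prime) (hf : 1 ≤ f) (hn : 3 ≤ n) (hno : Odd n) (hS : SzL (2 * n) (p ^ f)) (hfn : f * n ≤ 9) :
    p ^ (2 * f).factorization p * (p ^ n.factorization p * 9) < p ^ (f * (n - 1)) := by
  have hf3 : f ≤ 3 := by nlinarith
  obtain ⟨_, _, _, h6, _, _, h10⟩ := id hS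
  interval_cases f
  · rcases Nat.lt_or_ge n 4 with h4 | h4
    · have : n = 3 := by omega
      subst this
      have h7 := h6 (by norm_num)
      rw [pow_one] at h7
      have h1 : (2 * 1 : ℕ).factorization p = 0 := Nat.factorization_eq_zero_of_not_dvd (fun h => by
        have := Nat.le_of_dvd (by norm_num) h; omega)
      have h2 : (3 : ℕ).factorization p = 0 := Nat.factorization_eq_zero_of_not_dvd (fun h => by
        have := Nat.le_of_dvd (by norm_num) h; omega)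
      rw [h1, h2]
      norm_num
      have : 8 ^ 2 ≤ p ^ 2 := Nat.pow_le_pow_left (by omega) 2
      omega
    · refine lt_of_le_of_lt ?_ (nA1 hp hn hno hS)
      exact Nat.mul_le_mul_left _ (Nat.mul_le_mul_left _ (by omega))
  · have : n = 3 := by
      obtain ⟨k, rfl⟩ := hno
      omega
    subst this
    have h7 := h6 (by norm_num)
    have hp2 : p ≠ 2 := by rintro rfl; norm_num at h7
    have hp3 : 3 ≤ p := by have := hp.two_le; omega
    have h1 : (2 * 2 : ℕ).factorization p = 0 := Nat.factorization_eq_zero_of_not_dvd (fun h => by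
      have h8 : p ∣ 2 ^ 2 := h
      exact hp2 ((Nat.prime_dvd_prime_iff_eq hp Nat.prime_two).1 (hp.dvd_of_dvd_pow h8)))
    rw [h1, pow_zero, one_mul]
    refine lt_of_le_of_lt (Nat.mul_le_mul_right _ (pow_fac_le (by norm_num))) ?_
    exact lt_of_lt_of_le (by norm_num) (Nat.pow_le_pow_left hp3 _)
  · have : n = 3 := by
      obtain ⟨k, rfl⟩ := hno
      omega
    subst this
    by_cases hp2 : p = 2
    · subst hp2
      have h1 : (2 * 3 : ℕ).factorization 2 ≤ 1 := fac_le_of Nat.prime_two (by norm_num) (by norm_num)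
      have h2 : (3 : ℕ).factorization 2 ≤ 0 := fac_le_of Nat.prime_two (by norm_num) (by norm_num)
      calc _ ≤ 2 ^ 1 * (2 ^ 0 * 9) := Nat.mul_le_mul (Nat.pow_le_pow_right two_pos h1)
            (Nat.mul_le_mul_right _ (Nat.pow_le_pow_right two_pos h2))
        _ < _ := by norm_num
    · have hp3 : 3 ≤ p := by have := hp.two_le; omega
      refine lt_of_le_of_lt (Nat.mul_le_mul (pow_fac_le (by norm_num)) (Nat.mul_le_mul_right _ (pow_fac_le (by norm_num)))) ?_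
      exact lt_of_lt_of_le (by norm_num) (Nat.pow_le_pow_left hp3 _)

/-! ### Case `O_p(K) = 1` -/

theorem fu_caseA (hJ : OutJ1.{u}) {K : Type u} [Group K] [Finite K] {F V : Type*} [Field F] [Finite F] [AddCommGroup V]
    [Module F V] [FiniteDimensional F V] {p f n : ℕ} [CharP F p] (ρ : K →* Module.End F V)
    (hp : p.Prime) (hf : 1 ≤ f) (hn : 3 ≤ n) (hno : Odd n) (hS : SzL (2 * n) (p ^ f))
    (hdim : Module.finrank F V = 2 * n) (h : Fpf p ρ)
    {r : ℕ} (hr : r.Prime) (ha : orderOf (p : ZMod r) = f * n) {y : K} (hy : orderOf y = r)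
    (hcent : ¬ p ∣ Nat.card (centralizer ({y} : Set K))) (hnc : nc y ∣ 2 * n) (hOp : pCore p K = ⊥) {g : ℕ}
    (h1 : (Nat.card K).factorization p ≤ f * (2 * n - 1))
    (h2 : f * (2 * n - 1) ≤ (Nat.card K).factorization p + (2 * f).factorization p)
    (h3 : Nat.card K / p ^ (Nat.card K).factorization p ∣ g * (p ^ (2 * (f * n)) - 1))
    (hg0 : 0 < g) (hgN : g ≤ 2 * n) : False := by
  have := Fact.mk hr
  have := Fact.mk hp
  have hnt : Nontrivial V := Module.nontrivial_of_finrank_pos (R := F) (by omega)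
  have hfn1 : f * (2 * n - 1) + f = 2 * (f * n) := by
    obtain ⟨k, rfl⟩ : ∃ k, n = k + 1 := ⟨n - 1, by omega⟩
    rw [show 2 * (k + 1) - 1 = 2 * k + 1 by omega]; ring
  have hfn2 : f * (2 * n - 2) + 2 * f = 2 * (f * n) := by
    obtain ⟨k, rfl⟩ : ∃ k, n = k + 1 := ⟨n - 1, by omega⟩
    rw [show 2 * (k + 1) - 2 = 2 * k by omega]; ring
  have hfn3 : 3 ≤ f * n := by nlinarith
  have hn2 := szl_n2 hp hf (by omega) hS
  have hrp : r ≠ p := ne_of_orderOf hp ha (by omega)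
  have har := lt_of_orderOf hr hrp hp ha
  have hr5 : 5 ≤ r := by
    by_contra hcon
    have : r = 4 := by omega
    rw [this] at hr
    norm_num at hr
  have hnQ := szl_nQ hp hf (by omega) hS
  rw [show f * (2 * n) = 2 * (f * n) by ring] at hnQ
  have hhalf := half hp hf (by omega) hS
  have hM0 : 0 < Nat.card K / p ^ (Nat.card K).factorization p := Nat.ordCompl_pos p Nat.card_pos.ne'
  have hpe1 : 1 ≤ p ^ (2 * (f * n)) := Nat.one_le_pow _ _ hp.pos
  have hpe2 : 2 ≤ p ^ (2 * (f * n)) := by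
    calc 2 ≤ p := hp.two_le
      _ = p ^ 1 := (pow_one p).symm
      _ ≤ _ := Nat.pow_le_pow_right hp.pos (by omega)
  have hMle : Nat.card K / p ^ (Nat.card K).factorization p ≤ 2 * n * (p ^ (2 * (f * n)) - 1) :=
    (Nat.le_of_dvd (Nat.mul_pos hg0 (by omega)) h3).trans (Nat.mul_le_mul hgN le_rfl)
  have hM : Nat.card K / p ^ (Nat.card K).factorization p ≤ 2 * n * (p ^ (2 * (f * n)) + 1) :=
    hMle.trans (Nat.mul_le_mul le_rfl (by omega))
  have hC : 2 * n + 1 < p ^ (f * n) := by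
    rw [mul_comm 2 (f * n), pow_mul] at hnQ
    exact lt_of_pow_lt_pow_left₀ 2 (by positivity) hnQ
  have h2n : 2 * (2 * n) < p ^ (f * n) := by
    have h4 : p ^ (f * (n - 1)) ≤ p ^ (f * n) := Nat.pow_le_pow_right hp.pos (Nat.mul_le_mul_left _ (by omega))
    have h5 : 4 * 1 * n ≤ 4 * f * n := Nat.mul_le_mul_right _ (Nat.mul_le_mul_left _ hf)
    omega
  have hKc : Cyc p K := h.toCyc hp
  have hres := res_gen ρ hp h hdim hr hr5 hrp hy (by rw [hOp]; intro a ha; rw [mem_bot.1 ha]; exact Commute.one_right y)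
    hcent hnc (hout_of' hJ hp hr (by omega) hKc
      (by
        intro b hb0 hbd hb
        have h4 := (hp.pow_dvd_iff_le_factorization Nat.card_pos.ne').1 hbd
        refine no_dvd_b hp hr (by omega) har (by omega) hb0 hgN hg0 ?_ h3 hb
        calc 2 * (2 * n) < p ^ (f * n) := h2n
          _ ≤ (p ^ (f * n)) ^ 2 := Nat.le_self_pow (by norm_num) _)
      (by
        intro hp2 b hbo hb
        subst hp2
        exact no_dvd_b2 Nat.card_pos.ne' har hbo hC hM hb))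
  rcases hres.bc hp (by omega) (fun _ => hcanc hp h2 (szl_n1 hp hf (by omega) hS (by omega)))
      (fun _ => hcanc hp h2 (szl_n1 hp hf (by omega) hS (by omega))) with
      ⟨b, hb1, hb4, hvb, hdM, hrb, _⟩ | ⟨hp2, b, hbo, hb3, hvb, hdM, hrb, _⟩
  · -- L₂(p^b)
    rw [← pow_mul] at hrb hdM
    have h4 := orderOf_dvd_of_dvd hp hrb
    rw [ha] at h4
    have h5 := Nat.le_of_dvd (by omega) hdM
    obtain ⟨k, hk⟩ := h4
    have hk2 : k ≤ 2 := by
      by_contra hk3
      have h6 : f * n * 3 ≤ f * n * k := Nat.mul_le_mul_left _ (by omega)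
      have h7 : p ^ (f * n) * p ^ (2 * (f * n)) ≤ p ^ (b * 2) := by
        rw [← pow_add, hk]; exact Nat.pow_le_pow_right hp.pos (by omega)
      have h8 : (2 * (2 * n) + 1) * p ^ (2 * (f * n)) ≤ p ^ (f * n) * p ^ (2 * (f * n)) := Nat.mul_le_mul_right _ h2n
      have h9 : 2 * (2 * n * (p ^ (2 * (f * n)) - 1)) ≤ (2 * (2 * n)) * p ^ (2 * (f * n)) := by
        rw [← mul_assoc]; exact Nat.mul_le_mul_left _ (by omega)
      have h10 : (2 * (2 * n) + 1) * p ^ (2 * (f * n)) = (2 * (2 * n)) * p ^ (2 * (f * n)) + p ^ (2 * (f * n)) := by ring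
      omega
    have h6 : f * n * k ≤ f * n * 2 := Nat.mul_le_mul_left _ hk2
    omega
  · subst hp2
    have h4 := orderOf_dvd_of_dvd hp (dvd_sq hrb)
    rw [ha] at h4
    have h5 := Nat.le_of_dvd hM0 hdM
    have h6 := suz_size hC hM h5
    obtain ⟨k, hk⟩ := h4
    have hk3 : k ≤ 3 := by
      by_contra hk3
      have h7 : f * n * 4 ≤ f * n * k := Nat.mul_le_mul_left _ (by omega)
      omega
    rcases Nat.lt_or_ge k 3 with hk' | hk'
    · have h7 : f * n * k ≤ f * n * 2 := Nat.mul_le_mul_left _ (by omega)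
      omega
    · have hk4 : k = 3 := by omega
      subst hk4
      exact three_case hn hno hbo rfl hk hMle h5

end Cfsg.Agent.H997.Rg
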