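import Cfsg.Agent.H997.Rg.UF

/-!
# Residual case F-U in dimension `N = 2 n`, `n` odd: `O_p(K) ≠ 1` (helper997; S3691)
-/

set_option autoImplicit false

open Subgroup Cfsg

namespace Cfsg.Agent.H997.Rg

universe u

section quo

variable {K : Type*} [Group K] {F V : Type*} [Field F] [AddCommGroup V]
    [Module F V] {p : ℕ} {ρ : K →* Module.End F V}

theorem fixW_normal (ρ : K →* Module.End F V) (A : Subgroup K) [hA : A.Normal] :
    ∀ g, ∀ w ∈ fixW ρ A, ρ g w ∈ fixW ρ A := fun g => fixW_inv (fun a ha => by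
  have := hA.conj_mem a ha g⁻¹
  rwa [inv_inv] at this)

/-- the action of `K / A` on the fixed vectors of `A` -/
def quoW (ρ : K →* Module.End F V) (A : Subgroup K) [A.Normal] : K ⧸ A →* Module.End F (fixW ρ A) :=
  QuotientGroup.lift A (resW ρ (fixW ρ A) (fixW_normal ρ A)) (by
    intro a ha
    ext w
    exact w.2 a ha)

theorem quoW_mk (A : Subgroup K) [A.Normal] (g : K) (w : fixW ρ A) : ((quoW ρ A (g : K ⧸ A) w : fixW ρ A) : V) = ρ g w := rfl

theorem orderOf_lift [Finite K] {A : Subgroup K} [A.Normal] (hA : IsPGroup p A) (hp : p.Prime) {g : K}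
    (hs : (orderOf (g : K ⧸ A)).Prime) (hsp : orderOf (g : K ⧸ A) ≠ p) :
    ∃ m : ℕ, orderOf (g ^ m) = orderOf (g : K ⧸ A) := by
  have := Fact.mk hp
  obtain ⟨α, hα⟩ := IsPGroup.iff_card.1 hA
  refine ⟨p ^ α, ?_⟩
  have h1 : g ^ orderOf (g : K ⧸ A) ∈ A := by
    rw [← QuotientGroup.eq_one_iff, QuotientGroup.mk_pow]
    exact pow_orderOf_eq_one _
  have h2 : (g ^ p ^ α) ^ orderOf (g : K ⧸ A) = 1 := by
    rw [← pow_mul, mul_comm, pow_mul]
    have h3 : (⟨g ^ orderOf (g : K ⧸ A), h1⟩ : A) ^ Nat.card A = 1 := pow_card_eq_one'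
    rw [hα] at h3
    exact congrArg Subtype.val h3
  rcases (Nat.dvd_prime hs).1 (orderOf_dvd_of_pow_eq_one h2) with h3 | h3
  · exfalso
    rw [orderOf_eq_one_iff] at h3
    have h4 : (g : K ⧸ A) ^ p ^ α = 1 := by rw [← QuotientGroup.mk_pow, h3, QuotientGroup.mk_one]
    have h5 := orderOf_dvd_of_pow_eq_one h4
    exact hsp ((Nat.prime_dvd_prime_iff_eq hs hp).1 (hs.dvd_of_dvd_pow h5))
  · exact h3

theorem pow_fix {g : K} {w : V} (h : ρ g w = w) (m : ℕ) : ρ (g ^ m) w = w := by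
  induction m with
  | zero => rw [pow_zero, map_one]; rfl
  | succ m ih => rw [pow_succ, map_mul, Module.End.mul_apply, h, ih]

theorem Fpf.quo [Finite K] (h : Fpf p ρ) (hp : p.Prime) {A : Subgroup K} [A.Normal] (hA : IsPGroup p A) :
    Fpf p (quoW ρ A) := by
  intro x hx hxp w hw
  obtain ⟨g, rfl⟩ := QuotientGroup.mk_surjective x
  obtain ⟨m, hm⟩ := orderOf_lift hA hp hx hxp
  have h1 : ρ g (w : V) = w := congrArg Subtype.val hw
  exact Subtype.ext (h (g ^ m) (by rw [hm]; exact hx) (by rw [hm]; exact hxp) w (pow_fix h1 m))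

theorem quo_inj [Finite K] [Finite V] [CharP F p] [Nontrivial V] (h : Fpf p ρ) (hp : p.Prime) :
    Function.Injective (quoW ρ (pCore p K)) := by
  have := Fact.mk hp
  have hne := fixW_ne_bot (ρ := ρ) hp (pCore p K) (Cfsg.Agent.Lib.Cores.pCore_isPGroup p)
  rw [injective_iff_map_eq_one]
  intro x hx
  obtain ⟨g, rfl⟩ := QuotientGroup.mk_surjective x
  rw [QuotientGroup.eq_one_iff]
  let B : Subgroup K := (resW ρ (fixW ρ (pCore p K)) (fixW_normal ρ (pCore p K))).ker
  have hBn : B.Normal := MonoidHom.normal_ker _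
  have hBp : IsPGroup p B := by
    rw [IsPGroup.iff_card]
    refine ⟨_, Nat.eq_prime_pow_of_unique_prime_dvd Nat.card_pos.ne' ?_⟩
    intro s hs hsd
    by_contra hsp
    have := Fact.mk hs
    obtain ⟨b, hb⟩ := exists_prime_orderOf_dvd_card' (G := B) s hsd
    have hb' : orderOf (b : K) = s := by rw [Subgroup.orderOf_coe]; exact hb
    obtain ⟨w, hw, hw0⟩ := (Submodule.ne_bot_iff _).1 hne
    have h1 : ρ (b : K) w = w := by
      have h2 : resW ρ (fixW ρ (pCore p K)) (fixW_normal ρ (pCore p K)) (b : K) = 1 := b.2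
      have h3 := congrArg Subtype.val (LinearMap.congr_fun h2 ⟨w, hw⟩)
      exact h3
    exact hw0 (h (b : K) (by rw [hb']; exact hs) (by rw [hb']; exact hsp) w h1)
  apply Cfsg.Agent.Lib.Cores.le_pCore hBn hBp
  exact hx

open Polynomial in
/-- invariant complement -/
theorem Fpf.finrank_eq [Finite K] [Finite F] [CharP F p] [FiniteDimensional F V] [Nontrivial V] (h : Fpf p ρ) (hp : p.Prime)
    {y : K} {r n : ℕ} (hr : r.Prime) (hrp : r ≠ p) (hy : orderOf y = r)
    (hord : orderOf ((Nat.card F : ℕ) : ZMod r) = n) (hdim : Module.finrank F V = 2 * n) (W : Submodule F V)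
    (hW : ∀ w ∈ W, ρ y w ∈ W) (h0 : W ≠ ⊥) (h1 : W ≠ ⊤) : Module.finrank F W = n := by
  have hss : (ρ y).IsSemisimple := by
    apply Module.End.isSemisimple_of_squarefree_aeval_eq_zero (p := (X ^ r - 1 : F[X]))
    · refine (X_pow_sub_one_separable_iff.2 ?_).squarefree
      intro h2
      rw [CharP.cast_eq_zero_iff F p] at h2
      exact hrp ((Nat.prime_dvd_prime_iff_eq hp hr).1 h2).symm
    · rw [map_sub, map_pow, aeval_X, map_one, ← map_pow, ← hy, pow_orderOf_eq_one, map_one, sub_self]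
  obtain ⟨U, hU, hc⟩ := Module.End.isSemisimple_iff.1 hss W (fun w hw => hW w hw)
  have hU0 : U ≠ ⊥ := by
    rintro rfl
    exact h1 (by simpa using hc.sup_eq_top)
  obtain ⟨D, hD0, hD1, hD2⟩ := h.le_finrank hp hr hrp hy W hW h0
  obtain ⟨E, hE0, hE1, hE2⟩ := h.le_finrank hp hr hrp hy U (fun u hu => hU hu) hU0
  rw [hord] at hD2 hE2
  have h2 := Nat.le_of_dvd hD0 hD2
  have h3 := Nat.le_of_dvd hE0 hE2
  have h4 := Submodule.finrank_add_eq_of_isCompl hc
  omega

open Polynomial in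
/-- the centralizer of an irreducible element is commutative -/
theorem irr_comm [Nontrivial V] (hinj : Function.Injective ρ) {y : K}
    (hirr : ∀ U : Submodule F V, (∀ u ∈ U, ρ y u ∈ U) → U = ⊥ ∨ U = ⊤) :
    ∀ x w : K, Commute y x → Commute y w → Commute x w := by
  obtain ⟨v, hv⟩ := exists_ne (0 : V)
  let U : Submodule F V := LinearMap.range ((LinearMap.applyₗ v) ∘ₗ (aeval (ρ y)).toLinearMap : F[X] →ₗ[F] V)
  have hU : ∀ w, w ∈ U ↔ ∃ P : F[X], aeval (ρ y) P v = w := fun w => Iff.rfl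
  have h1 : U = ⊤ := by
    refine (hirr U ?_).resolve_left ?_
    · intro u hu
      obtain ⟨P, rfl⟩ := (hU u).1 hu
      rw [hU]
      refine ⟨X * P, ?_⟩
      rw [map_mul, aeval_X]; rfl
    · intro h
      have h2 : v ∈ U := (hU v).2 ⟨1, by rw [map_one]; rfl⟩
      rw [h, Submodule.mem_bot] at h2
      exact hv h2
  have hcy : ∀ w : V, ∃ P : F[X], aeval (ρ y) P v = w := fun w => (hU w).1 (by rw [h1]; trivial)
  intro x w hx hw
  obtain ⟨P, hP⟩ := Cfsg.Agent.H899.Rg.exists_poly hcy (a := ρ x) (hx.symm.map ρ)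
  obtain ⟨P', hP'⟩ := Cfsg.Agent.H899.Rg.exists_poly hcy (a := ρ w) (hw.symm.map ρ)
  apply hinj
  rw [map_mul, map_mul, hP, hP', ← map_mul, ← map_mul, mul_comm]

end quo

/-! ### Case `O_p(K) ≠ 1` -/

theorem fu_caseB (hJ : OutJ1.{u}) {K : Type u} [Group K] [Finite K] {F V : Type*} [Field F] [Finite F] [AddCommGroup V]
    [Module F V] [FiniteDimensional F V] {p f n : ℕ} [CharP F p] (ρ : K →* Module.End F V)
    (hinj : Function.Injective ρ)
    (hp : p.Prime) (hf : 1 ≤ f) (hn : 3 ≤ n) (hno : Odd n) (hS : SzL (2 * n) (p ^ f)) (hF : Nat.card F = (p ^ f) ^ 2)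
    (hdim : Module.finrank F V = 2 * n) (h : Fpf p ρ)
    {r : ℕ} (hr : r.Prime) (ha : orderOf (p : ZMod r) = f * n) {y : K} (hy : orderOf y = r)
    (hcent : ¬ p ∣ Nat.card (centralizer ({y} : Set K))) (hOp : pCore p K ≠ ⊥)
    {t : ℕ} (ht : t.Prime) (hat : orderOf (p : ZMod t) = 2 * (f * n)) (htK : t ∣ Nat.card K)
    (h1 : (Nat.card K).factorization p ≤ f * (2 * n - 1))
    (h2 : f * (2 * n - 1) ≤ (Nat.card K).factorization p + (2 * f).factorization p)
    (h3 : Nat.card K / p ^ (Nat.card K).factorization p ≤ 2 * n * (p ^ (2 * (f * n)) - 1)) : False := by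
  have := Fact.mk hr
  have := Fact.mk hp
  have := Fact.mk ht
  have hfV : Finite V := Module.finite_of_finite F
  have hnt : Nontrivial V := Module.nontrivial_of_finrank_pos (R := F) (by omega)
  have hfn1 : f * (2 * n - 1) + f = 2 * (f * n) := by
    obtain ⟨k, rfl⟩ : ∃ k, n = k + 1 := ⟨n - 1, by omega⟩
    rw [show 2 * (k + 1) - 1 = 2 * k + 1 by omega]; ring
  have hfn2 : f * (2 * n - 2) + 2 * f = 2 * (f * n) := by
    obtain ⟨k, rfl⟩ : ∃ k, n = k + 1 := ⟨n - 1, by omega⟩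
    rw [show 2 * (k + 1) - 2 = 2 * k by omega]; ring
  have hfn4 : f * (n - 1) + f = f * n := by
    obtain ⟨k, rfl⟩ : ∃ k, n = k + 1 := ⟨n - 1, by omega⟩
    rw [Nat.add_sub_cancel]; ring
  have hfn3 : 3 ≤ f * n := by nlinarith
  have hn2 := szl_n2 hp hf (by omega) hS
  have hrp : r ≠ p := ne_of_orderOf hp ha (by omega)
  have har := lt_of_orderOf hr hrp hp ha
  have htp : t ≠ p := ne_of_orderOf hp hat (by omega)
  have hart := lt_of_orderOf ht htp hp hat
  have hnQ := szl_nQ hp hf (by omega) hS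
  rw [show f * (2 * n) = 2 * (f * n) by ring] at hnQ
  have hC : 2 * n + 1 < p ^ (f * n) := by
    rw [mul_comm 2 (f * n), pow_mul] at hnQ
    exact lt_of_pow_lt_pow_left₀ 2 (by positivity) hnQ
  -- the order of `A = O_p(K)`
  obtain ⟨A, hA⟩ : ∃ A : Subgroup K, A = pCore p K := ⟨_, rfl⟩
  have hAn : (pCore p K).Normal := Cfsg.Agent.Lib.Cores.pCore_normal p
  have hAp : IsPGroup p (pCore p K) := Cfsg.Agent.Lib.Cores.pCore_isPGroup p
  obtain ⟨α, hα⟩ := IsPGroup.iff_card.1 hAp
  have hαe : α = f * n := by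
    have h4 := dvd_of_cent hp hr hy hcent (pCore p K) (fun a ha => hAn.conj_mem a ha y) hα
    rw [ha] at h4
    have h5 : p ^ α ∣ Nat.card K := by rw [← hα]; exact Subgroup.card_subgroup_dvd_card _
    have h6 := (hp.pow_dvd_iff_le_factorization Nat.card_pos.ne').1 h5
    obtain ⟨k, hk⟩ := h4
    have hk1 : k < 2 := by
      by_contra hk2
      have : f * n * 2 ≤ f * n * k := Nat.mul_le_mul_left _ (by omega)
      omega
    have hk0 : k ≠ 0 := by
      rintro rfl
      rw [hk, mul_zero, pow_zero] at hα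
      exact hOp (Subgroup.eq_bot_of_card_eq _ hα)
    have : k = 1 := by omega
    rw [hk, this, mul_one]
  rw [hαe] at hα
  -- the order of `K / A`
  have hcardQ : Nat.card K = Nat.card (K ⧸ pCore p K) * p ^ (f * n) := by
    rw [← hα]; exact Subgroup.card_eq_card_quotient_mul_card_subgroup _
  have hvQ : (Nat.card K).factorization p = (Nat.card (K ⧸ pCore p K)).factorization p + f * n := by
    rw [hcardQ, Nat.factorization_mul Nat.card_pos.ne' (pow_ne_zero _ hp.ne_zero), Finsupp.add_apply,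
      Nat.factorization_pow, Finsupp.smul_apply, hp.factorization_self, smul_eq_mul, mul_one]
  have hMQ : Nat.card K / p ^ (Nat.card K).factorization p =
      Nat.card (K ⧸ pCore p K) / p ^ (Nat.card (K ⧸ pCore p K)).factorization p := by
    rw [hvQ, pow_add, hcardQ]
    exact Nat.mul_div_mul_right _ _ (pow_pos hp.pos _)
  rw [hMQ] at h3
  -- the module `W`
  have hordr : orderOf ((Nat.card F : ℕ) : ZMod r) = n := by
    rw [hF, ← pow_mul, Nat.cast_pow, orderOf_pow' _ (by omega), ha, show Nat.gcd (f * n) (f * 2) = f by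
      rw [Nat.gcd_mul_left, Nat.Coprime.gcd_eq_one (Nat.coprime_two_right.2 hno), mul_one]]
    exact Nat.mul_div_cancel_left n (by omega)
  have hordt : orderOf ((Nat.card F : ℕ) : ZMod t) = n := by
    rw [hF, ← pow_mul]
    exact order_card (by omega) (by rw [hat]; ring)
  have hW0 := fixW_ne_bot (ρ := ρ) hp (pCore p K) hAp
  have hW1 : fixW ρ (pCore p K) ≠ ⊤ := by
    intro h4
    apply hOp
    rw [Subgroup.eq_bot_iff_forall]
    intro a ha
    apply hinj
    rw [map_one]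
    ext v
    have : v ∈ fixW ρ (pCore p K) := by rw [h4]; trivial
    exact this a ha
  have hdW : Module.finrank F (fixW ρ (pCore p K)) = n :=
    h.finrank_eq hp hr hrp hy hordr hdim _ (fixW_normal ρ (pCore p K) y) hW0 hW1
  have hntW : Nontrivial (fixW ρ (pCore p K)) := (Submodule.nontrivial_iff_ne_bot).2 hW0
  have hq := h.quo hp hAp
  have hqi := quo_inj h hp
  have hordr' : orderOf ((Nat.card F : ℕ) : ZMod r) = Module.finrank F (fixW ρ (pCore p K)) := by rw [hordr, hdW]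
  have hordt' : orderOf ((Nat.card F : ℕ) : ZMod t) = Module.finrank F (fixW ρ (pCore p K)) := by rw [hordt, hdW]
  -- elements of order `r`, `t`
  have hdvQ : ∀ {s : ℕ}, s.Prime → s ≠ p → s ∣ Nat.card K → s ∣ Nat.card (K ⧸ pCore p K) := by
    intro s hs hsp hsd
    rw [hcardQ] at hsd
    exact ((hs.dvd_mul).1 hsd).resolve_right (fun h4 => hsp ((Nat.prime_dvd_prime_iff_eq hs hp).1 (hs.dvd_of_dvd_pow h4)))
  obtain ⟨z, hz⟩ := exists_prime_orderOf_dvd_card' (G := K ⧸ pCore p K) r (hdvQ hr hrp (by rw [← hy]; exact orderOf_dvd_natCard y))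
  obtain ⟨x, hx⟩ := exists_prime_orderOf_dvd_card' (G := K ⧸ pCore p K) t (hdvQ ht htp htK)
  have hirx := fun U hU => hq.irr hp ht htp hx hordt' U hU
  have hirz := fun U hU => hq.irr hp hr hrp hz hordr' U hU
  have hirz' := fun U hU => hq.irr hp hr hrp (y := z⁻¹) (by rw [orderOf_inv]; exact hz) hordr' U hU
  have hOpQ : pCore p (K ⧸ pCore p K) = ⊥ := by
    apply irr_bot hp hqi (y := x) hirx _ (Cfsg.Agent.Lib.Cores.pCore_isPGroup p)
    intro a ha
    have := (Cfsg.Agent.Lib.Cores.pCore_normal (G := K ⧸ pCore p K) p).conj_mem a ha x⁻¹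
    rwa [inv_inv] at this
  have hncx : nc x ∣ n := by
    obtain ⟨D, hD0, hD1, hD2, hD3⟩ := hq.nc_dvd hp ht htp hx
    rw [hordt'] at hD3
    have h1 : D = Module.finrank F (fixW ρ (pCore p K)) := le_antisymm hD1 (Nat.le_of_dvd hD0 hD3)
    rwa [h1, hdW] at hD2
  have hres := res_gen (quoW ρ (pCore p K)) hp hq hdW ht (by omega) htp hx
    (by rw [hOpQ]; intro a ha; rw [mem_bot.1 ha]; exact Commute.one_right x) (irr_cent hp hqi hirx) hncx
    (hout_of hJ hp ht (by omega) (hq.toCyc hp) (by omega))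
  have hw : f * (n - 1) ≤ (Nat.card (K ⧸ pCore p K)).factorization p + (2 * f).factorization p := by omega
  have hM0 : 0 < Nat.card (K ⧸ pCore p K) / p ^ (Nat.card (K ⧸ pCore p K)).factorization p := Nat.ordCompl_pos p Nat.card_pos.ne'
  have hcn : n.factorization p ≤ (2 * n).factorization p := fac_le ⟨2, by ring⟩ (by omega)
  have hM : Nat.card (K ⧸ pCore p K) / p ^ (Nat.card (K ⧸ pCore p K)).factorization p ≤ 2 * n * (p ^ (2 * (f * n)) + 1) :=
    h3.trans (Nat.mul_le_mul le_rfl (by omega))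
  rcases hres.bc hp (by omega)
      (fun h4 => hcanc hp hw (by
        have hf1 : f = 1 := by
          by_contra hf1
          have : 2 * n ≤ f * n := Nat.mul_le_mul_right _ (by omega)
          omega
        subst hf1
        exact nA1 hp hn hno hS))
      (fun h4 => hcanc hp hw (nA2 hp hf hn hno hS (by omega))) with
      ⟨b, hb1, hb4, hvb, hdM, hrb, hs⟩ | ⟨hp2, b, hbo, hb3, hvb, hdM, hrb, hs⟩
  · -- L₂(p^b)
    rw [← pow_mul] at hrb
    have h4 := orderOf_dvd_of_dvd hp hrb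
    rw [hat, mul_comm b 2] at h4
    have h5 : f * n ∣ b := Nat.dvd_of_mul_dvd_mul_left two_pos h4
    have h6 : r ∣ p ^ b - 1 := by
      have h7 : (p : ZMod r) ^ b = 1 := by rw [← orderOf_dvd_iff_pow_eq_one, ha]; exact h5
      have h8 : ((p ^ b : ℕ) : ZMod r) = ((1 : ℕ) : ZMod r) := by rw [Nat.cast_pow, h7, Nat.cast_one]
      exact (Nat.modEq_iff_dvd' (Nat.one_le_pow _ _ hp.pos)).1 ((ZMod.natCast_eq_natCast_iff _ _ _).1 h8).symm
    have hr2 : r ≠ 2 := by omega
    obtain ⟨P, hP0, hPp, hPz⟩ := hs r hr hr2 hrp h6 z hz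
    apply hP0
    apply irr_bot hp hqi hirz' P hPp
    intro a ha
    rw [inv_inv]
    exact hPz a ha
  · subst hp2
    have h4 := orderOf_dvd_of_dvd hp (dvd_sq hrb)
    rw [hat] at h4
    have h5 := Nat.le_of_dvd hM0 hdM
    have h6 := suz_size hC hM h5
    obtain ⟨k, hk⟩ := h4
    have hk1 : k = 1 := by
      have hk2 : k < 2 := by
        by_contra hk3
        have h7 : 2 * (f * n) * 2 ≤ 2 * (f * n) * k := Nat.mul_le_mul_left _ (by omega)
        omega
      have hk0 : k ≠ 0 := by rintro rfl; omega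
      omega
    rw [hk1] at hk
    have hbe : 2 * b = f * n := by omega
    have h7 := hs r hr (by omega) (fun h8 => by have := Nat.le_of_dvd (by omega) h8; omega) z hz (irr_comm hqi hirz)
    rcases (hr.dvd_mul).1 h7 with h8 | h8
    · have h9 : ((2 : ℕ) : ZMod r) ^ (b * 2) = 1 := by
        rw [mul_comm b 2, hbe, ← ha]; exact pow_orderOf_eq_one _
      have h10 : (((2 ^ b) ^ 2 + 1 : ℕ) : ZMod r) = 0 := (ZMod.natCast_eq_zero_iff _ _).2 h8
      rw [Nat.cast_add, ← pow_mul, Nat.cast_pow, h9] at h10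
      have h11 : ((2 : ℕ) : ZMod r) = 0 := by
        rw [← h10]; push_cast; norm_num
      have h12 := Nat.le_of_dvd two_pos ((ZMod.natCast_eq_zero_iff _ _).1 h11)
      omega
    · have h9 := orderOf_dvd_of_dvd hp h8
      rw [ha] at h9
      have := Nat.le_of_dvd (by omega) h9
      omega

end Cfsg.Agent.H997.Rg
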